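import Groth.Agent.ZeroAcyclic.Descent.Main
import Groth.Agent.LocImm.FppfDominate
import Groth.Agent.Hensel1.Finite
import Groth.Agent.S14620
import Mathlib.FieldTheory.PurelyInseparable.Basic

/-!
Effective descent of étale sheaves along surjective flat morphisms locally of finite presentation.

Over a strictly henselian scheme such a morphism has a finite flat local quasi-section, which has a
single point with purely inseparable residue field extension over the closed point; hence every germ
there is compatible with the descent datum over the whole strictly henselian scheme.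
-/

set_option autoImplicit false
set_option backward.isDefEq.respectTransparency.types false
set_option linter.style.haveILetI false
set_option linter.unusedSectionVars false

universe u

open CategoryTheory CategoryTheory.Limits AlgebraicGeometry Opposite IsLocalRing

namespace Groth.ZeroAcyclic.Descent

open Groth.EtaleBase (geomPoint geomPoint_apply)
open Groth.EtaleBase.EtLimit Groth.EtaleBase.EtLocalRing Groth.AlgSpEt.StrictLocal
open Groth.EtaleShriek.BCSets (sg)
open Groth.DescentBase (shStalk shGerm_surjective)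
open Groth.DescentBase.IntDescent (transport)

/-- A non-trivial finite flat algebra over a henselian local ring has a local finite flat factor. -/
theorem exists_local_factor (R : Type u) [CommRing R] [HenselianLocalRing R] (C : Type u) [CommRing C]
    [Algebra R C] [Module.Finite R C] [Module.Flat R C] [Nontrivial C] :
    ∃ (T : Type u) (_ : CommRing T) (_ : IsLocalRing T) (_ : Algebra R T) (_ : C →ₐ[R] T),
      Module.Finite R T ∧ Module.Flat R T ∧ IsLocalHom (algebraMap R T) := by
  obtain ⟨ι, _, e, he, hloc⟩ := Groth.Hensel1.exists_completeOrthogonalIdempotents_local R C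
  obtain ⟨i⟩ : Nonempty ι := by
    by_contra h
    have : IsEmpty ι := not_nonempty_iff.1 h
    have h' := he.complete
    simp at h'
  let T := C ⧸ Ideal.span {1 - e i}
  haveI : IsLocalRing T := hloc i
  haveI : IsLocalization.Away (e i) T :=
    IsLocalization.away_of_isIdempotentElem (he.idem i) Ideal.mk_ker Ideal.Quotient.mk_surjective
  haveI : Module.Flat C T := IsLocalization.flat T (Submonoid.powers (e i))
  haveI : Module.Flat R T := Module.Flat.trans R C T
  haveI : Module.Finite R T := Module.Finite.of_surjective (Ideal.Quotient.mkₐ R (Ideal.span {1 - e i})).toLinearMap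
    Ideal.Quotient.mk_surjective
  have hint : (algebraMap R T).IsIntegral := algebraMap_isIntegral_iff.2 inferInstance
  haveI : IsLocalHom (algebraMap R T) :=
    ((IsLocalRing.local_hom_TFAE _).out 0 4).2 (IsLocalRing.eq_maximalIdeal
      (Ideal.isMaximal_comap_of_isIntegral_of_isMaximal' _ hint (IsLocalRing.maximalIdeal T)))
  exact ⟨T, inferInstance, inferInstance, inferInstance, Ideal.Quotient.mkₐ R _, inferInstance, inferInstance,
    inferInstance⟩

/-- Points with values in a field of a local algebra, finite over a local ring with separably closed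
residue field, lying over the closed point, are determined by their restriction to the base. -/
theorem hom_ext_of_closed (R : Type u) [CommRing R] [IsLocalRing R] [IsSepClosed (ResidueField R)]
    (T : Type u) [CommRing T] [IsLocalRing T] [Algebra R T] [Module.Finite R T]
    [IsLocalHom (algebraMap R T)] {K : Type u} [Field K] (χ₁ χ₂ : T →+* K)
    (h : χ₁.comp (algebraMap R T) = χ₂.comp (algebraMap R T)) [IsLocalHom (χ₁.comp (algebraMap R T))] :
    χ₁ = χ₂ := by
  have key : ∀ χ : T →+* K, IsLocalHom (χ.comp (algebraMap R T)) → IsLocalHom χ := by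
    intro χ hc
    haveI : ((maximalIdeal K).comap χ).IsPrime := Ideal.IsPrime.comap _
    haveI : Algebra.IsIntegral R T := Algebra.IsIntegral.of_finite R T
    have h0 : ((maximalIdeal K).comap χ).comap (algebraMap R T) = maximalIdeal R :=
      ((IsLocalRing.local_hom_TFAE (χ.comp (algebraMap R T))).out 0 4).1 hc
    have hmax : ((maximalIdeal K).comap χ).IsMaximal :=
      Ideal.isMaximal_of_isIntegral_of_isMaximal_comap _ (h0 ▸ IsLocalRing.maximalIdeal.isMaximal R)
    exact ((IsLocalRing.local_hom_TFAE χ).out 0 4).2 (IsLocalRing.eq_maximalIdeal hmax)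
  haveI := key χ₁ inferInstance
  haveI := key χ₂ (h ▸ inferInstance)
  haveI : Algebra.IsAlgebraic (ResidueField R) (ResidueField T) := Algebra.IsAlgebraic.of_finite _ _
  have e : ResidueField.lift χ₁ = ResidueField.lift χ₂ := by
    refine IsPurelyInseparable.injective_comp_algebraMap (ResidueField R) (ResidueField T) K ?_
    refine RingHom.ext fun a => ?_
    obtain ⟨a, rfl⟩ := IsLocalRing.residue_surjective a
    exact RingHom.congr_fun h a
  exact RingHom.ext fun t => RingHom.congr_fun e (residue T t)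

variable {X' X : Scheme.{u}} {f : X' ⟶ X} {F' : EtDesc.Sh X'}
  {φ : (EtDesc.pullSh (pullback.fst f f)).obj F' ≅ (EtDesc.pullSh (pullback.snd f f)).obj F'}
  (hφ : EtDesc.IsCocycle F' φ)

include hφ in
set_option maxHeartbeats 1000000 in
/-- Over a strictly henselian scheme a germ on a finite local quasi-section matches itself on all pairs
of points over the same point. -/
theorem same_of_finite (RS : Type u) [CommRing RS] [IsLocalRing RS] [IsSepClosed (ResidueField RS)]
    (T : Type u) [CommRing T] [IsLocalRing T] [Algebra RS T] [Module.Finite RS T]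
    [IsLocalHom (algebraMap RS T)] (σS : Spec (CommRingCat.of RS) ⟶ X)
    (r : Spec (CommRingCat.of T) ⟶ X')
    (hr : Spec.map (CommRingCat.ofHom (algebraMap RS T)) ≫ σS = r ≫ f) {W : X'.Etale}
    (σ₀ : F'.obj.obj (op W)) (uB : Spec (CommRingCat.of T) ⟶ W.left) (huB : uB ≫ W.hom = r)
    (K : Type u) [Field K] [IsSepClosed K] (l₁ l₂ : Spec (CommRingCat.of K) ⟶ Spec (CommRingCat.of T))
    (h : l₁ ≫ Spec.map (CommRingCat.ofHom (algebraMap RS T)) =
      l₂ ≫ Spec.map (CommRingCat.ofHom (algebraMap RS T))) :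
    Same f F' φ σ₀ σ₀ (l₁ ≫ uB) (l₂ ≫ uB) := by
  let p := Spec.map (CommRingCat.ofHom (algebraMap RS T))
  haveI : IsFinite p := (IsFinite.SpecMap_iff _).2 (RingHom.finite_algebraMap.2 inferInstance)
  let g : pullback p p ⟶ Spec (CommRingCat.of RS) := pullback.fst p p ≫ p
  haveI : IsFinite (pullback.fst p p) := MorphismProperty.pullback_fst _ _ ‹_›
  haveI : IsFinite g := inferInstanceAs (IsFinite (_ ≫ _))
  have hQ : ((pullback.fst p p ≫ uB) ≫ W.hom) ≫ f = ((pullback.snd p p ≫ uB) ≫ W.hom) ≫ f := by
    simp only [Category.assoc, reassoc_of% huB, ← hr]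
    exact pullback.condition_assoc σS
  obtain ⟨A, hA⟩ := exists_locus (φ := φ) σ₀ σ₀ (pullback.fst p p ≫ uB) (pullback.snd p p ≫ uB) hQ
  have htop : ∀ z : ↥(pullback p p), z ∈ A := by
    intro z
    by_contra hz
    have hc : IsClosed (g.base '' (A : Set ↥(pullback p p))ᶜ) := g.isClosedMap _ A.isOpen.isClosed_compl
    obtain ⟨z₀, hz₀, hgz⟩ := (IsLocalRing.specializes_closedPoint (g z)).mem_closed hc ⟨z, hz, rfl⟩
    let ζ := geomPoint z₀
    obtain ⟨χ₁, h₁⟩ := Spec.map_surjective (ζ ≫ pullback.fst p p)
    obtain ⟨χ₂, h₂⟩ := Spec.map_surjective (ζ ≫ pullback.snd p p)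
    have he : CommRingCat.ofHom (algebraMap RS T) ≫ χ₁ = CommRingCat.ofHom (algebraMap RS T) ≫ χ₂ := by
      apply Spec.map_injective
      rw [Spec.map_comp, Spec.map_comp, h₁, h₂, Category.assoc, Category.assoc, pullback.condition]
    haveI : IsLocalHom (χ₁.hom.comp (algebraMap RS T)) := by
      refine (IsLocalRing.isLocalHom_iff_comap_closedPoint _).2 ?_
      have e1 : Spec.map (CommRingCat.ofHom (χ₁.hom.comp (algebraMap RS T))) = ζ ≫ g := by
        rw [show CommRingCat.ofHom (χ₁.hom.comp (algebraMap RS T)) = CommRingCat.ofHom (algebraMap RS T) ≫ χ₁ from rfl,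
          Spec.map_comp, h₁, Category.assoc]
      refine Eq.trans ?_ hgz
      show (Spec.map (CommRingCat.ofHom (χ₁.hom.comp (algebraMap RS T)))) _ = _
      rw [e1, Scheme.Hom.comp_apply]
      exact congrArg _ (geomPoint_apply z₀ _)
    have hχ : χ₁ = χ₂ := CommRingCat.hom_ext
      (hom_ext_of_closed RS T χ₁.hom χ₂.hom (congrArg CommRingCat.Hom.hom he))
    have hn : ζ ≫ pullback.fst p p = ζ ≫ pullback.snd p p := by rw [← h₁, ← h₂, hχ]
    refine hz₀ (Set.mem_of_eq_of_mem (geomPoint_apply z₀ _).symm ((hA _ ζ).2 ?_))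
    rw [← Category.assoc, ← Category.assoc, hn]
    exact Same.refl hφ
  have hj := (hA K (pullback.lift l₁ l₂ h)).1 (htop _)
  rw [← Category.assoc, ← Category.assoc, pullback.lift_fst, pullback.lift_snd] at hj
  exact hj

include hφ in
set_option maxHeartbeats 1000000 in
/-- Compatible sections over every germ, along a surjective flat morphism locally of finite presentation. -/
theorem exists_datum_fppf [Surjective f] [Flat f] [LocallyOfFinitePresentation f] {Ω : Type u} [Field Ω]
    [IsAlgClosed Ω]
    (ξ : Spec (CommRingCat.of Ω) ⟶ X') (c : (shStalk ξ).obj F') (V₀ : X.Etale)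
    (t₀ : (Scheme.pointSmallEtale (ξ ≫ f)).fiber.obj V₀) (U : X'.Etale) (a₀ : U.left ⟶ V₀.left)
    (ha₀ : a₀ ≫ V₀.hom = U.hom ≫ f) [QuasiCompact a₀] [QuasiSeparated a₀]
    (wU : (Scheme.pointSmallEtale ξ).fiber.obj U) (hw : wU.left ≫ a₀ = t₀.left) :
    ∃ (V : X.Etale) (d : V ⟶ V₀) (P : X'.Etale) (a : P.left ⟶ V.left) (r : P.left ⟶ U.left)
      (s : F'.obj.obj (op P)) (_ : IsPullback a r d.left a₀) (_ : a ≫ V.hom = P.hom ≫ f)
      (w : Spec (CommRingCat.of Ω) ⟶ P.left) (e : w ≫ P.hom = ξ),
      PairSame f F' φ a s ∧ sg F' ξ P w e s = c := by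
  obtain ⟨W₁, w₁, σ₁, rfl⟩ := shGerm_surjective ξ F' c
  let η := ξ ≫ f
  let x : X := η default
  let RS : Type u := EtBase.etaleLocalRing η
  letI : Algebra (X.presheaf.stalk x) RS := (toEtale η).hom.toAlgebra
  obtain ⟨hlocS, hS⟩ := Groth.AlgSpEt.StrictHens.isStrictHenselization η
  haveI : IsLocalHom (algebraMap (X.presheaf.stalk x) RS) := hlocS
  haveI : Hensel.IsStrictHenselization (X.presheaf.stalk x) RS := hS
  haveI := hS.henselian
  haveI : IsSepClosed (ResidueField RS) :=
    haveI := hS.isSepClosure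
    IsSepClosure.sep_closed (ResidueField (X.presheaf.stalk x))
  let ρS : RS →+* Ω := (ev η).hom
  haveI : IsLocalHom ρS := isLocalHom_ev η
  let σS := Hens2.specOf X x RS
  haveI : WeaklyEtale σS := Groth.Agent.S0754.result X x RS
  have hη : locPt RS ρS ≫ σS = η := specMap_ev_toEtale η
  -- a finite flat quasi-section
  obtain ⟨S', V, e, π, r₀, he, ⟨s', hs'⟩, hπs, hπf, hπfl, -, hr₀⟩ :=
    Groth.LocImmersion.FppfDominate.exists_finite_flat f x
  let Se : X.Etale := @Scheme.Etale.mk _ _ e he
  obtain ⟨tS, htS, -⟩ := Scheme.exists_fac_of_etale_of_isSepClosed e η s' hs'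
  let t' : (Scheme.pointSmallEtale η).fiber.obj Se := Over.homMk tS htS
  let σ' : Spec (CommRingCat.of RS) ⟶ S' := locLift RS ρS σS η hη Se t'
  have hσ' : σ' ≫ e = σS := locLift_hom RS ρS σS η hη Se t'
  let VA := pullback π σ'
  let pA := pullback.snd π σ'
  haveI : IsFinite pA := MorphismProperty.pullback_snd _ _ hπf
  haveI : Flat pA := MorphismProperty.pullback_snd _ _ hπfl
  haveI : Surjective pA := MorphismProperty.pullback_snd _ _ hπs
  haveI : IsAffine VA := isAffine_of_isAffineHom pA
  let C := Γ(VA, ⊤)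
  let q : Spec C ⟶ Spec (CommRingCat.of RS) := VA.isoSpec.inv ≫ pA
  haveI : IsFinite q := inferInstanceAs (IsFinite (_ ≫ _))
  haveI : Flat q := inferInstanceAs (Flat (_ ≫ _))
  haveI : Surjective q := inferInstanceAs (Surjective (_ ≫ _))
  obtain ⟨χ, hχ⟩ := Spec.map_surjective q
  letI : Algebra RS C := χ.hom.toAlgebra
  haveI : Module.Finite RS C := RingHom.finite_algebraMap.1 ((IsFinite.SpecMap_iff χ).1 (hχ ▸ inferInstance))
  haveI : Module.Flat RS C := RingHom.flat_algebraMap_iff.1 (Flat.SpecMap_iff.1 (hχ ▸ ‹Flat q›))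
  haveI : Nontrivial C := by
    obtain ⟨y, -⟩ := q.surjective (closedPoint RS)
    exact PrimeSpectrum.nontrivial y
  obtain ⟨T, _, _, _, κ, _, _, _⟩ := exists_local_factor RS C
  haveI : HenselianLocalRing T := Groth.Hensel1.henselianLocalRing_of_finite RS T
  haveI : IsSepClosed (ResidueField T) :=
    (Groth.Agent.S14620.result (algebraMap RS T) (RingHom.finite_algebraMap.2 inferInstance)
      ⟨inferInstance, inferInstance⟩).2
  let p := Spec.map (CommRingCat.ofHom (algebraMap RS T))
  haveI : Module.FaithfullyFlat RS T := Module.FaithfullyFlat.of_flat_of_isLocalHom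
  haveI : Surjective p := ⟨PrimeSpectrum.comap_surjective_of_faithfullyFlat (A := RS) (B := T)⟩
  let r : Spec (CommRingCat.of T) ⟶ X' :=
    Spec.map (CommRingCat.ofHom κ.toRingHom) ≫ VA.isoSpec.inv ≫ pullback.fst π σ' ≫ r₀
  have hr : p ≫ σS = r ≫ f := by
    have h1 : Spec.map (CommRingCat.ofHom κ.toRingHom) ≫ q = p := by
      rw [← hχ, ← Spec.map_comp]
      exact congrArg Spec.map (CommRingCat.hom_ext (RingHom.ext fun a => κ.commutes a))
    simp only [r, Category.assoc]
    rw [hr₀, ← h1, ← hσ']
    simp only [q, pA, Category.assoc]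
    rw [pullback.condition_assoc]
  -- a point over the closed point
  letI : Algebra (ResidueField RS) Ω := (ResidueField.lift ρS).toAlgebra
  haveI : Algebra.IsAlgebraic (ResidueField RS) (ResidueField T) := Algebra.IsAlgebraic.of_finite _ _
  let τ : ResidueField T →ₐ[ResidueField RS] Ω := IsAlgClosed.lift
  let ρT : T →+* Ω := τ.toRingHom.comp (residue T)
  haveI : IsLocalHom ρT := ⟨fun a ha => by
    by_contra hna
    have : residue T a = 0 := (IsLocalRing.residue_eq_zero_iff a).2 hna
    exact ha.ne_zero (show τ (residue T a) = 0 by rw [this, map_zero])⟩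
  let l₀ := locPt T ρT
  have hl₀ : l₀ ≫ p = locPt RS ρS := by
    refine (Spec.map_comp _ _).symm.trans (congrArg Spec.map (CommRingCat.hom_ext (RingHom.ext fun a => ?_)))
    exact τ.commutes (residue RS a)
  let ξ₀ := l₀ ≫ r
  have hξ₀ : ξ₀ ≫ f = ξ ≫ f :=
    (Category.assoc _ _ _).trans ((congrArg (l₀ ≫ ·) hr.symm).trans ((Category.assoc _ _ _).symm.trans
      ((congrArg (· ≫ σS) hl₀).trans hη)))
  -- the transported germ
  obtain ⟨W, w₀, σ₀, hσ₀⟩ := shGerm_surjective ξ₀ F'
    ((transport f F' φ ξ ξ₀ hξ₀.symm).hom (sg F' ξ W₁ w₁.left (Over.w w₁) σ₁))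
  have hsame : Same f F' φ σ₁ σ₀ w₁.left w₀.left :=
    (same_iff ξ ξ₀ (Over.w w₁) (Over.w w₀) hξ₀.symm).2 hσ₀.symm
  let uB := locLift T ρT r ξ₀ rfl W w₀
  have huB : uB ≫ W.hom = r := locLift_hom T ρT r ξ₀ rfl W w₀
  obtain ⟨y, hy⟩ := exists_descended hφ σS uB p (hr.trans (congrArg (· ≫ f) huB.symm)) σ₀
    (same_of_finite hφ RS T σS r hr σ₀ uB huB) (by
      haveI : Surjective (pullback.fst (pullback.snd f σS) p) := MorphismProperty.pullback_fst _ _ ‹_›
      haveI : Flat p := Flat.SpecMap_iff.2 (RingHom.flat_algebraMap_iff.2 inferInstance)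
      haveI : QuasiCompact (pullback.fst (pullback.snd f σS) p) :=
        MorphismProperty.pullback_fst _ _ inferInstance
      exact isUnivSubmersive_of_ugen _ (MorphismProperty.pullback_fst _ _ (ugen_of_flat p)))
  have e₀ : l₀ ≫ uB = w₀.left := locPt_locLift T ρT r ξ₀ rfl W w₀
  exact exists_datum_of_descended hφ RS ρS σS ξ hη p σ₀ uB y hy l₀ hl₀ σ₁ w₁.left (Over.w w₁)
    (e₀ ▸ hsame.symm hφ) V₀ t₀ U a₀ ha₀ wU hw

include hφ in
/-- **Effective fppf descent**. -/
theorem effective_of_fppf [Surjective f] [Flat f] [LocallyOfFinitePresentation f] :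
    EtDesc.IsEffective f F' φ :=
  effective_of_universallyOpen_of_datum hφ (exists_datum_fppf hφ)

end Groth.ZeroAcyclic.Descent
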