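import Groth.Agent.ZeroAcyclic.Descent.Local

/-!
Effective descent along surjective universally locally zero acyclic morphisms which are universally open
or quasi-compact and quasi-separated.
-/

set_option autoImplicit false
set_option backward.isDefEq.respectTransparency.types false
set_option linter.style.haveILetI false
set_option linter.unusedSectionVars false

universe u

open CategoryTheory CategoryTheory.Limits AlgebraicGeometry Opposite IsLocalRing

namespace Groth.ZeroAcyclic.Descent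

open Groth.EtaleBase (geomPoint geomPoint_apply openObj openHom pushLift)
open Groth.EtaleBase.EtLimit Groth.EtaleBase.EtLocalRing Groth.AlgSpEt.StrictLocal
open Groth.EtaleShriek.FlatConnBC (exists_rel exists_etale_section)
open Groth.EtaleShriek.BCSets (sg)
open Groth.DescentBase (shStalk shGerm_surjective)

variable {X' X : Scheme.{u}} {f : X' ⟶ X} {F' : EtDesc.Sh X'}
  {φ : (EtDesc.pullSh (pullback.fst f f)).obj F' ≅ (EtDesc.pullSh (pullback.snd f f)).obj F'}
  (hφ : EtDesc.IsCocycle F' φ)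

include hφ in
set_option maxHeartbeats 1000000 in
/-- Compatible sections over a germ matching a compatible section over a strictly henselian scheme. -/
theorem exists_datum_of_descended (RS : Type u) [CommRing RS] [HenselianLocalRing RS]
    [IsSepClosed (ResidueField RS)] {Ω : Type u} [Field Ω] [IsSepClosed Ω] (ρS : RS →+* Ω) [IsLocalHom ρS]
    (σS : Spec (CommRingCat.of RS) ⟶ X) [WeaklyEtale σS] (ξ : Spec (CommRingCat.of Ω) ⟶ X')
    (hη : locPt RS ρS ≫ σS = ξ ≫ f) {B : Scheme.{u}} (p : B ⟶ Spec (CommRingCat.of RS)) [Surjective p]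
    {W : X'.Etale} (σ₀ : F'.obj.obj (op W)) (uB : B ⟶ W.left)
    (y : ((EtDesc.pullSh (pullback.fst f σS)).obj F').obj.obj (op (EtCoh.top (pullback f σS))))
    (hy : ∀ (K : Type u) [Field K] [IsSepClosed K] (m : Spec (CommRingCat.of K) ⟶ pullback f σS)
      (l : Spec (CommRingCat.of K) ⟶ B), m ≫ pullback.snd f σS = l ≫ p → HasValues y m W σ₀ (l ≫ uB) φ)
    (l₀ : Spec (CommRingCat.of Ω) ⟶ B) (hl₀ : l₀ ≫ p = locPt RS ρS) {W₁ : X'.Etale}
    (σ₁ : F'.obj.obj (op W₁)) (w₁ : Spec (CommRingCat.of Ω) ⟶ W₁.left) (e₁ : w₁ ≫ W₁.hom = ξ)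
    (hc : Same f F' φ σ₀ σ₁ (l₀ ≫ uB) w₁) (V₀ : X.Etale)
    (t₀ : (Scheme.pointSmallEtale (ξ ≫ f)).fiber.obj V₀) (U : X'.Etale) (a₀ : U.left ⟶ V₀.left)
    (ha₀ : a₀ ≫ V₀.hom = U.hom ≫ f) [QuasiCompact a₀] [QuasiSeparated a₀]
    (wU : (Scheme.pointSmallEtale ξ).fiber.obj U) (hw : wU.left ≫ a₀ = t₀.left) :
    ∃ (V : X.Etale) (d : V ⟶ V₀) (P : X'.Etale) (a : P.left ⟶ V.left) (r : P.left ⟶ U.left)
      (s : F'.obj.obj (op P)) (_ : IsPullback a r d.left a₀) (_ : a ≫ V.hom = P.hom ≫ f)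
      (w : Spec (CommRingCat.of Ω) ⟶ P.left) (e : w ≫ P.hom = ξ),
      PairSame f F' φ a s ∧ sg F' ξ P w e s = sg F' ξ W₁ w₁ e₁ σ₁ := by
  obtain ⟨V, d, t, ht, P, a, r, s, hpb, hr, hps, hval⟩ :=
    exists_pairSame hφ RS ρS σS hη p σ₀ uB y hy V₀ t₀ U a₀ ha₀
  have ht' : t.left ≫ d.left = t₀.left := congrArg (fun z => z.left) ht
  let w : Spec (CommRingCat.of Ω) ⟶ P.left := hpb.lift t.left wU.left (ht'.trans hw.symm)
  have ha : a ≫ V.hom = P.hom ≫ f := by
    rw [← hr, Category.assoc, ← ha₀, ← hpb.w_assoc, MorphismProperty.Over.w d]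
  have e : w ≫ P.hom = ξ := by
    rw [← hr]
    exact (Category.assoc _ _ _).symm.trans ((congrArg (· ≫ U.hom) (hpb.lift_snd _ _ _)).trans (Over.w wU))
  refine ⟨V, d, P, a, r, s, hpb, ha, w, e, hps, ?_⟩
  have h := hval Ω l₀ w ((congrArg (· ≫ locLift RS ρS σS (ξ ≫ f) hη V t) hl₀).trans
    ((locPt_locLift RS ρS σS (ξ ≫ f) hη V t).trans (hpb.lift_fst _ _ _).symm))
  exact ((hc.symm hφ).trans hφ h).sg_eq hφ ξ e₁ e |>.symm

include hφ in
set_option maxHeartbeats 1000000 in
/-- Compatible sections over every germ. -/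
theorem exists_datum (hf : EtAcyc.IsULocZeroAcyclic f) {Ω : Type u} [Field Ω] [IsAlgClosed Ω]
    (ξ : Spec (CommRingCat.of Ω) ⟶ X') (c : (shStalk ξ).obj F') (V₀ : X.Etale)
    (t₀ : (Scheme.pointSmallEtale (ξ ≫ f)).fiber.obj V₀) (U : X'.Etale) (a₀ : U.left ⟶ V₀.left)
    (ha₀ : a₀ ≫ V₀.hom = U.hom ≫ f) [QuasiCompact a₀] [QuasiSeparated a₀]
    (wU : (Scheme.pointSmallEtale ξ).fiber.obj U) (hw : wU.left ≫ a₀ = t₀.left) :
    ∃ (V : X.Etale) (d : V ⟶ V₀) (P : X'.Etale) (a : P.left ⟶ V.left) (r : P.left ⟶ U.left)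
      (s : F'.obj.obj (op P)) (_ : IsPullback a r d.left a₀) (_ : a ≫ V.hom = P.hom ≫ f)
      (w : Spec (CommRingCat.of Ω) ⟶ P.left) (e : w ≫ P.hom = ξ),
      PairSame f F' φ a s ∧ sg F' ξ P w e s = c := by
  obtain ⟨W, wW, σ₀, rfl⟩ := shGerm_surjective ξ F' c
  let η := ξ ≫ f
  let x : X' := ξ default
  let RX : Type u := EtBase.etaleLocalRing ξ
  letI : Algebra (X'.presheaf.stalk x) RX := (toEtale ξ).hom.toAlgebra
  obtain ⟨hlocX, hX⟩ := Groth.AlgSpEt.StrictHens.isStrictHenselization ξ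
  haveI : IsLocalHom (algebraMap (X'.presheaf.stalk x) RX) := hlocX
  haveI : Hensel.IsStrictHenselization (X'.presheaf.stalk x) RX := hX
  let RS : Type u := EtBase.etaleLocalRing (ξ ≫ f)
  letI : Algebra (X.presheaf.stalk (f.base x)) RS := (toEtale (ξ ≫ f)).hom.toAlgebra
  obtain ⟨hlocS, hS⟩ := Groth.AlgSpEt.StrictHens.isStrictHenselization (ξ ≫ f)
  haveI : IsLocalHom (algebraMap (X.presheaf.stalk (f.base x)) RS) := hlocS
  haveI : Hensel.IsStrictHenselization (X.presheaf.stalk (f.base x)) RS := hS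
  haveI := hX.henselian
  haveI := hS.henselian
  haveI : IsSepClosed (ResidueField RS) := hS.isSepClosure.sep_closed
  haveI : IsSepClosed (ResidueField RX) :=
    haveI := hX.isSepClosure
    IsSepClosure.sep_closed (ResidueField (X'.presheaf.stalk x))
  obtain ⟨ψ, hψloc, hψ⟩ := exists_strictHenselization_map (X.presheaf.stalk (f.base x))
    (X'.presheaf.stalk x) (f.stalkMap x).hom RS RX
  haveI := hψloc
  haveI : IsLocalHom (ev ξ).hom := isLocalHom_ev ξ
  let σS := Hens2.specOf X (f.base x) RS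
  let σX := Hens2.specOf X' x RX
  haveI : WeaklyEtale σS := Groth.Agent.S0754.result X (f.base x) RS
  haveI : WeaklyEtale σX := Groth.Agent.S0754.result X' x RX
  have hν := specOf_compat f x RS RX ψ hψ
  have hξ : locPt RX (ev ξ).hom ≫ σX = ξ := specMap_ev_toEtale ξ
  let p := Spec.map (CommRingCat.ofHom ψ)
  let l₀ := locPt RX (ev ξ).hom
  have hl₀ : l₀ ≫ p = locPt RS ((ev ξ).hom.comp ψ) := (Spec.map_comp (CommRingCat.ofHom ψ) (ev ξ)).symm
  have hη : locPt RS ((ev ξ).hom.comp ψ) ≫ σS = ξ ≫ f :=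
    (congrArg (· ≫ σS) hl₀.symm).trans ((Category.assoc _ _ _).trans
      ((congrArg (l₀ ≫ ·) hν).trans ((Category.assoc _ _ _).symm.trans (congrArg (· ≫ f) hξ))))
  obtain ⟨k, _, -, hk⟩ := exists_weaklyEtale_lift f x RS RX ψ hψ
  haveI : Surjective p := ⟨surjective_of_isZeroAcyclic p (isZeroAcyclic_of_weaklyEtale f hf RS RX σS ψ k hk)⟩
  haveI : GeometricallyConnected p := by
    letI : Algebra RS RX := ψ.toAlgebra
    haveI : IsLocalHom (algebraMap RS RX) := hψloc
    exact geometricallyConnected_spec f hf RS RX σS k hk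
  let uB := locLift RX (ev ξ).hom σX ξ hξ W wW
  obtain ⟨y, hy⟩ := exists_descended_local hφ σ₀ σX σS p (ugen_of_weaklyEtale f hf σS k p hk) hν uB
    (locLift_hom RX (ev ξ).hom σX ξ hξ W wW)
  have e₀ : l₀ ≫ uB = wW.left := locPt_locLift RX (ev ξ).hom σX ξ hξ W wW
  exact exists_datum_of_descended hφ RS ((ev ξ).hom.comp ψ) σS ξ hη p σ₀ uB y hy l₀ hl₀ σ₀ wW.left
    (Over.w wW) (e₀ ▸ Same.refl hφ) V₀ t₀ U a₀ ha₀ wU hw

include hφ in
/-- Descent of a compatible section to a neighbourhood downstairs. -/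
theorem exists_section_of_pairSame {Ω : Type u} [Field Ω] [IsSepClosed Ω]
    {ξ : Spec (CommRingCat.of Ω) ⟶ X'} {V : X.Etale} {P : X'.Etale} (a : P.left ⟶ V.left) [Surjective a]
    (ha : a ≫ V.hom = P.hom ≫ f) (σ : F'.obj.obj (op P)) (hP : PairSame f F' φ a σ)
    (hq : ∀ {T : Scheme.{u}} (g : T ⟶ V.left), EtDesc.IsUnivSubmersive (pullback.fst g a))
    (w : Spec (CommRingCat.of Ω) ⟶ P.left) (e : w ≫ P.hom = ξ) :
    ∃ (t : (Scheme.pointSmallEtale (ξ ≫ f)).fiber.obj V) (s : F'.obj.obj (op ((EtCoh.bc f).obj V))),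
      PairSame f F' φ (pullback.fst V.hom f) s ∧ val' ξ V t s = sg F' ξ P w e σ := by
  haveI : Etale V.hom := V.prop
  obtain ⟨y, hy⟩ := exists_descended hφ V.hom (𝟙 P.left) a
    (ha.trans (congrArg (· ≫ f) (Category.id_comp _).symm)) σ
    (fun K _ _ l₁ l₂ h => by rw [Category.comp_id, Category.comp_id]; exact hP K l₁ l₂ h)
    (hq (pullback.snd f V.hom))
  haveI : Etale (pullback.fst f V.hom) := MorphismProperty.pullback_fst _ _ ‹_›
  let B := (EtCoh.bc f).obj V
  let i : pullback f V.hom ⟶ B.left := (pullbackSymmetry f V.hom).hom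
  haveI : IsIso i := inferInstanceAs (IsIso (pullbackSymmetry f V.hom).hom)
  have hi : i ≫ B.hom = (EtCoh.top (pullback f V.hom)).hom ≫ pullback.fst f V.hom :=
    (pullbackSymmetry_hom_comp_snd f V.hom).trans (Category.id_comp _).symm
  obtain ⟨s, hs⟩ := exists_etale_section (pullback.fst f V.hom) F' (EtCoh.top (pullback f V.hom)) y B i hi
  have hsame : ∀ (K : Type u) [Field K] [IsSepClosed K] (l : Spec (CommRingCat.of K) ⟶ P.left)
      (m : Spec (CommRingCat.of K) ⟶ B.left), m ≫ pullback.fst V.hom f = l ≫ a →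
      Same f F' φ σ s l m := by
    intro K _ _ l m hlm
    let m' : Spec (CommRingCat.of K) ⟶ pullback f V.hom := m ≫ inv i
    have hm : m' ≫ i = m := by simp [m']
    have hsnd : m' ≫ pullback.snd f V.hom = l ≫ a := by
      rw [← pullbackSymmetry_hom_comp_fst f V.hom]
      exact (Category.assoc _ _ _).symm.trans ((congrArg (· ≫ pullback.fst V.hom f) hm).trans hlm)
    have h := hy K m' l hsnd B s (m' ≫ i) (hs K m')
    rw [Category.comp_id, hm] at h
    exact h
  refine ⟨Over.homMk (w ≫ a) ((Category.assoc _ _ _).trans ((congrArg (w ≫ ·) ha).trans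
    ((Category.assoc _ _ _).symm.trans (congrArg (· ≫ f) e)))), s, ?_, ?_⟩
  · intro K _ _ l₁ l₂ hl
    let b := pullback.fst V.hom f
    let Q := pullback b b
    have hQ : (pullback.fst b b ≫ B.hom) ≫ f = (pullback.snd b b ≫ B.hom) ≫ f := by
      have hB : B.hom ≫ f = b ≫ V.hom := pullback.condition.symm
      exact (Category.assoc _ _ _).trans ((congrArg (pullback.fst b b ≫ ·) hB).trans
        ((pullback.condition_assoc _).trans ((congrArg (pullback.snd b b ≫ ·) hB.symm).trans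
          (Category.assoc _ _ _).symm)))
    obtain ⟨A, hA⟩ := exists_locus (φ := φ) s s (pullback.fst b b) (pullback.snd b b) hQ
    let j : Spec (CommRingCat.of K) ⟶ Q := pullback.lift l₁ l₂ hl
    have h : j default ∈ A := by
      obtain ⟨z, hz⟩ := (pullback.fst (pullback.fst b b ≫ b) a).surjective (j default)
      let ζ := geomPoint z
      let l := ζ ≫ pullback.snd (pullback.fst b b ≫ b) a
      let j' := ζ ≫ pullback.fst (pullback.fst b b ≫ b) a
      have h₁ : (j' ≫ pullback.fst b b) ≫ b = l ≫ a :=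
        (Category.assoc _ _ _).trans ((Category.assoc _ _ _).trans
          ((congrArg (ζ ≫ ·) pullback.condition).trans (Category.assoc _ _ _).symm))
      have h₂ : (j' ≫ pullback.snd b b) ≫ b = l ≫ a :=
        ((Category.assoc _ _ _).trans ((congrArg (j' ≫ ·) pullback.condition.symm).trans
          (Category.assoc _ _ _).symm)).trans h₁
      refine Set.mem_of_eq_of_mem ?_ ((hA _ j').2
        (((hsame _ l _ h₁).symm hφ).trans hφ (hsame _ l _ h₂)))
      rw [← hz]
      simp only [j', ζ, Scheme.Hom.comp_apply, geomPoint_apply]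
    have hh := (hA K j).1 h
    have gen : ∀ a₁ a₂ : Spec (CommRingCat.of K) ⟶ B.left, j ≫ pullback.fst b b = a₁ →
        j ≫ pullback.snd b b = a₂ → Same f F' φ s s a₁ a₂ := by
      rintro _ _ rfl rfl
      exact hh
    exact gen l₁ l₂ (pullback.lift_fst _ _ _) (pullback.lift_snd _ _ _)
  · have hw' : (w ≫ a) ≫ V.hom = ξ ≫ f := (Category.assoc _ _ _).trans ((congrArg (w ≫ ·) ha).trans
      ((Category.assoc _ _ _).symm.trans (congrArg (· ≫ f) e)))
    have h := hsame Ω w (pullback.lift (w ≫ a) ξ hw') (pullback.lift_fst _ _ _)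
    exact (h.sg_eq hφ ξ e (pullback.lift_snd _ _ _)).symm

/-- A universally open morphism is surjective and universally open onto its image. -/
theorem exists_corestrict {A B : Scheme.{u}} (a : A ⟶ B) [UniversallyOpen a] :
    ∃ (O : B.Opens) (a' : A ⟶ O), a' ≫ O.ι = a ∧ Surjective a' ∧ UniversallyOpen a' := by
  let O : B.Opens := ⟨Set.range a.base, a.isOpenMap.isOpen_range⟩
  let a' : A ⟶ O := IsOpenImmersion.lift O.ι a (by rw [Scheme.Opens.range_ι]; exact subset_rfl)
  have ha' : a' ≫ O.ι = a := IsOpenImmersion.lift_fac _ _ _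
  refine ⟨O, a', ha', ⟨fun x => ?_⟩, ?_⟩
  · obtain ⟨z, hz⟩ := x.2
    exact ⟨z, O.ι.isOpenEmbedding.injective ((congrArg (fun m : A ⟶ B => m z) ha').trans hz)⟩
  · have h : IsPullback a' (𝟙 _) O.ι a :=
      ⟨⟨by simp [ha']⟩, ⟨PullbackCone.IsLimit.mk _ (fun s => s.snd)
        (fun s => by rw [← cancel_mono O.ι, Category.assoc, ha', ← s.condition])
        (fun s => Category.comp_id _) (fun s m _ h => by simpa using h)⟩⟩
    exact MorphismProperty.of_isPullback (P := @UniversallyOpen) h.flip ‹_›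

include hφ in
/-- **Effective descent**: quasi-compact quasi-separated case. -/
theorem effective_of_qcqs (hf : EtAcyc.IsULocZeroAcyclic f) [Surjective f] [QuasiCompact f]
    [QuasiSeparated f] : EtDesc.IsEffective f F' φ := by
  refine effective_of_local (isUnivSubmersive_of_ugen f (ugen_of_isULocZeroAcyclic f hf)) fun Ω _ _ ξ c => ?_
  let V₀ := EtCoh.top X
  let U := (EtCoh.bc f).obj V₀
  let a₀ : U.left ⟶ V₀.left := pullback.fst V₀.hom f
  haveI : QuasiCompact a₀ := MorphismProperty.pullback_fst _ _ ‹_›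
  haveI : QuasiSeparated a₀ := MorphismProperty.pullback_fst _ _ ‹_›
  haveI : Surjective a₀ := MorphismProperty.pullback_fst _ _ ‹_›
  have hu₀ : UGen a₀ := MorphismProperty.pullback_fst _ _ (ugen_of_isULocZeroAcyclic f hf)
  obtain ⟨V, d, P, a, r, σ, hpb, ha, w, e, hps, hc⟩ :=
    exists_datum hφ hf ξ c V₀ (Groth.DescentBase.UnivSubm.topPt (ξ ≫ f)) U a₀ pullback.condition
      (pushLift f ξ rfl V₀ (Groth.DescentBase.UnivSubm.topPt (ξ ≫ f))) (pullback.lift_fst _ _ _)
  haveI : Surjective a := MorphismProperty.of_isPullback (P := @Surjective) hpb.flip ‹_›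
  haveI : QuasiCompact a := MorphismProperty.of_isPullback (P := @QuasiCompact) hpb.flip ‹_›
  have hu : UGen a := MorphismProperty.of_isPullback (P := UGen) hpb.flip hu₀
  obtain ⟨t, s, hs, hval⟩ := exists_section_of_pairSame hφ a ha σ hps (fun g => by
    haveI : Surjective (pullback.fst g a) := MorphismProperty.pullback_fst _ _ ‹_›
    haveI : QuasiCompact (pullback.fst g a) := MorphismProperty.pullback_fst _ _ ‹_›
    exact isUnivSubmersive_of_ugen _ (MorphismProperty.pullback_fst _ _ hu)) w e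
  exact ⟨V, t, s, hs, hval.trans hc⟩

include hφ in
/-- **Effective descent** along surjective universally open morphisms from compatible sections. -/
theorem effective_of_universallyOpen_of_datum [Surjective f] [UniversallyOpen f]
    (hdat : ∀ {Ω : Type u} [Field Ω] [IsAlgClosed Ω] (ξ : Spec (CommRingCat.of Ω) ⟶ X')
      (c : (shStalk ξ).obj F') (V₀ : X.Etale)
      (t₀ : (Scheme.pointSmallEtale (ξ ≫ f)).fiber.obj V₀) (U : X'.Etale) (a₀ : U.left ⟶ V₀.left)
      (_ : a₀ ≫ V₀.hom = U.hom ≫ f) [QuasiCompact a₀] [QuasiSeparated a₀]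
      (wU : (Scheme.pointSmallEtale ξ).fiber.obj U) (_ : wU.left ≫ a₀ = t₀.left),
      ∃ (V : X.Etale) (d : V ⟶ V₀) (P : X'.Etale) (a : P.left ⟶ V.left) (r : P.left ⟶ U.left)
        (s : F'.obj.obj (op P)) (_ : IsPullback a r d.left a₀) (_ : a ≫ V.hom = P.hom ≫ f)
        (w : Spec (CommRingCat.of Ω) ⟶ P.left) (e : w ≫ P.hom = ξ),
        PairSame f F' φ a s ∧ sg F' ξ P w e s = c) :
    EtDesc.IsEffective f F' φ := by
  refine effective_of_local (isUnivSubmersive_of_universallyOpen f) fun Ω _ _ ξ c => ?_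
  obtain ⟨⟨V₀, t₀⟩, hV₀, -⟩ := exists_affine_nbhd_le (ξ ≫ f) (Functor.elementsMk _ (EtCoh.top X) (Groth.DescentBase.UnivSubm.topPt (ξ ≫ f)))
  obtain ⟨⟨U, wU⟩, hU, ⟨r₀⟩⟩ :=
    exists_affine_nbhd_le ξ (Functor.elementsMk _ ((EtCoh.bc f).obj V₀) (pushLift f ξ rfl V₀ t₀))
  haveI : IsAffine V₀.left := hV₀
  haveI : IsAffine U.left := hU
  haveI : Etale V₀.hom := V₀.prop
  let rl : U.left ⟶ ((EtCoh.bc f).obj V₀).left := r₀.1.left
  haveI : Etale rl := inferInstanceAs (Etale r₀.1.left)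
  haveI : UniversallyOpen rl := inferInstance
  let a₀ : U.left ⟶ V₀.left := rl ≫ pullback.fst V₀.hom f
  haveI : IsAffineHom a₀ := isAffineHom_of_isAffine a₀
  haveI : IsSeparated a₀ := IsSeparated.of_isAffineHom a₀
  haveI : UniversallyOpen (pullback.fst V₀.hom f) := MorphismProperty.pullback_fst _ _ ‹UniversallyOpen f›
  haveI : UniversallyOpen a₀ := MorphismProperty.comp_mem (W := @UniversallyOpen) rl (pullback.fst V₀.hom f) ‹_› ‹_›
  have ha₀ : a₀ ≫ V₀.hom = U.hom ≫ f := by
    refine (Category.assoc _ _ _).trans ((congrArg (rl ≫ ·) pullback.condition).trans ?_)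
    exact (Category.assoc _ _ _).symm.trans (congrArg (· ≫ f) (MorphismProperty.Over.w r₀.1))
  have hw : wU.left ≫ a₀ = t₀.left :=
    (Category.assoc _ _ _).symm.trans
      ((congrArg (fun z : (Scheme.pointSmallEtale ξ).fiber.obj _ => z.left ≫ pullback.fst V₀.hom f) r₀.2).trans
        (pullback.lift_fst _ _ _))
  obtain ⟨V, d, P, a, r, σ, hpb, ha, w, e, hps, hc⟩ := hdat ξ c V₀ t₀ U a₀ ha₀ wU hw
  haveI : UniversallyOpen a := MorphismProperty.of_isPullback (P := @UniversallyOpen) hpb.flip ‹_›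
  -- the image
  obtain ⟨O, a'₀, ha', h1, h2⟩ := exists_corestrict (A := P.left) (B := V.left) a
  let a' : P.left ⟶ (openObj V O).left := a'₀
  haveI : Surjective a' := h1
  haveI : UniversallyOpen a' := h2
  have hps' : PairSame f F' φ a' σ := fun K _ _ l₁ l₂ h => hps K l₁ l₂ (by
    exact (congrArg (l₁ ≫ ·) ha'.symm).trans ((Category.assoc _ _ _).symm.trans
      ((congrArg (· ≫ O.ι) h).trans ((Category.assoc _ _ _).trans (congrArg (l₂ ≫ ·) ha')))))
  obtain ⟨t, s, hs, hval⟩ := exists_section_of_pairSame hφ (V := openObj V O) (P := P) a'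
    ((Category.assoc _ _ _).symm.trans ((congrArg (· ≫ V.hom) ha').trans ha)) σ hps' (fun g => by
      haveI : Surjective (pullback.fst g a') := MorphismProperty.pullback_fst _ _ ‹_›
      exact isUnivSubmersive_of_universallyOpen _) w e
  exact ⟨openObj V O, t, s, hs, hval.trans hc⟩

include hφ in
/-- **Effective descent**: universally open case. -/
theorem effective_of_universallyOpen (hf : EtAcyc.IsULocZeroAcyclic f) [Surjective f] [UniversallyOpen f] :
    EtDesc.IsEffective f F' φ :=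
  effective_of_universallyOpen_of_datum hφ (exists_datum hφ hf)

end Groth.ZeroAcyclic.Descent
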