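import Groth.Agent.ZeroAcyclic.Descent.Effective
import Groth.Agent.ZeroAcyclic.BaseChange

/-!
Along a map with connected geometric fibres, a germ matches itself on every pair of points.
-/

set_option autoImplicit false
set_option backward.isDefEq.respectTransparency.types false
set_option linter.style.haveILetI false
set_option linter.unusedSectionVars false

universe u

open CategoryTheory CategoryTheory.Limits AlgebraicGeometry Opposite

namespace Groth.ZeroAcyclic.Descent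

open Groth.EtaleBase (geomPoint geomPoint_apply pushLift fiber_bc_ext)
open Groth.DescentBase (shStalk shGerm shGerm_map)
open Groth.DescentBase.UnivSubm (pt pt_germ pt_pullVia)
open Groth.DescentBase.IntDescent (transport)
open Groth.EtaleShriek.BCSets (sg)
open Groth.EtaleShriek.FlatConnBC (exists_good_id_of_isQuotientMap good_iff)

/-- Surjective universally open morphisms are universally submersive. -/
theorem isUnivSubmersive_of_universallyOpen {A B : Scheme.{u}} (g : A ⟶ B) [Surjective g] [UniversallyOpen g] :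
    EtDesc.IsUnivSubmersive g := fun _ c => by
  haveI : Surjective (pullback.snd g c) := MorphismProperty.pullback_snd _ _ ‹_›
  exact ⟨(pullback.snd g c).surjective,
    (pullback.snd g c).isOpenMap.isQuotientMap (pullback.snd g c).continuous (pullback.snd g c).surjective⟩

/-- Surjective quasi-compact universally generalizing morphisms are universally submersive. -/
theorem isUnivSubmersive_of_ugen {A B : Scheme.{u}} (g : A ⟶ B) (hg : UGen g) [Surjective g] [QuasiCompact g] :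
    EtDesc.IsUnivSubmersive g := fun _ c => by
  haveI : Surjective (pullback.snd g c) := MorphismProperty.pullback_snd _ _ ‹_›
  exact ⟨(pullback.snd g c).surjective, isQuotientMap_snd_of_ugen g hg c⟩

/-- Sections of an inverse image along a map with connected geometric fibres are inverse images. -/
theorem exists_sect_of_connected {Z B : Scheme.{u}} (μ : Z ⟶ B) [Surjective μ] [GeometricallyConnected μ]
    [QuasiCompact μ] (hμ : UGen μ) (G : EtDesc.Sh B)
    (x : ((EtDesc.pullSh μ).obj G).obj.obj (op (EtCoh.top Z))) :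
    ∃ y : G.obj.obj (op (EtCoh.top B)), ∀ (K : Type u) [Field K] [IsSepClosed K]
      (ζ : Spec (CommRingCat.of K) ⟶ Z) (n : Spec (CommRingCat.of K) ⟶ B) (hn : ζ ≫ μ = n),
      sg ((EtDesc.pullSh μ).obj G) ζ (EtCoh.top Z) ζ (Category.comp_id _) x =
        (pt μ G ζ hn).hom (sg G n (EtCoh.top B) n (Category.comp_id _) y) := by
  let μ' : (EtCoh.top Z).left ⟶ (EtCoh.top B).left := μ
  haveI : Surjective μ' := ‹Surjective μ›
  haveI : QuasiCompact μ' := ‹QuasiCompact μ›
  haveI : GeometricallyConnected μ' := ‹GeometricallyConnected μ›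
  obtain ⟨y, hy⟩ := exists_good_id_of_isQuotientMap (e := μ) (F := G) (V := EtCoh.top B) (μ := μ') x
    ((Category.comp_id _).trans (Category.id_comp _).symm) fun W gW => isQuotientMap_snd_of_ugen μ' hμ gW.left
  rw [good_iff] at hy
  refine ⟨y, fun K _ _ ζ n hn => ?_⟩
  obtain ⟨hl, e⟩ := hy K ζ (ζ ≫ μ) (Category.comp_id _)
  have gen : ∀ (χ : Spec (CommRingCat.of K) ⟶ Z) (hχ : ζ ≫ (EtCoh.top Z).hom = χ) (hχn : χ ≫ μ = n),
      sg ((EtDesc.pullSh μ).obj G) χ (EtCoh.top Z) ζ hχ x =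
        (pt μ G χ hχn).hom (sg G n (EtCoh.top B) n (Category.comp_id _) y) := by
    rintro _ rfl hχn
    rw [pt_germ]
    refine e.trans ?_
    exact congrArg (fun t => shGerm _ _ _ t _)
      (fiber_bc_ext μ (EtCoh.top B) _ _ _
        ((pullback.lift_fst _ _ _).trans (hn.trans (pullback.lift_fst _ _ _).symm)))
  exact gen ζ (Category.comp_id _) hn

variable {X' X : Scheme.{u}} {f : X' ⟶ X} {F' : EtDesc.Sh X'}
  {φ : (EtDesc.pullSh (pullback.fst f f)).obj F' ≅ (EtDesc.pullSh (pullback.snd f f)).obj F'}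
  (hφ : EtDesc.IsCocycle F' φ) {W : X'.Etale} (σ₀ : F'.obj.obj (op W)) {B A : Scheme.{u}}
  (σX : B ⟶ X') (σS : A ⟶ X) (p : B ⟶ A) [Surjective p] [GeometricallyConnected p] [QuasiCompact p]
  (hp : UGen p) (hν : p ≫ σS = σX ≫ f) (uB : B ⟶ W.left) (huB : uB ≫ W.hom = σX)

include hφ hp hν huB in
set_option maxHeartbeats 1000000 in
/-- A germ matches itself on all pairs of points over the same point. -/
theorem same_of_connected (K : Type u) [Field K] [IsSepClosed K] (l₁ l₂ : Spec (CommRingCat.of K) ⟶ B)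
    (h : l₁ ≫ p = l₂ ≫ p) : Same f F' φ σ₀ σ₀ (l₁ ≫ uB) (l₂ ≫ uB) := by
  let Z := pullback p p
  let p₁ := pullback.fst p p
  let p₂ := pullback.snd p p
  haveI : Surjective p₂ := MorphismProperty.pullback_snd _ _ ‹_›
  haveI : QuasiCompact p₂ := MorphismProperty.pullback_snd _ _ ‹_›
  haveI : GeometricallyConnected p₂ := MorphismProperty.pullback_snd _ _ ‹_›
  have hp₂ : UGen p₂ := MorphismProperty.pullback_snd _ _ hp
  let b := p₂ ≫ σX
  have hb : (p₁ ≫ σX) ≫ f = b ≫ f := by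
    simp only [b, p₁, p₂, Category.assoc, ← hν, pullback.condition_assoc]
  obtain ⟨x, hx⟩ := exists_transport_section (φ := φ) σ₀ b (p₁ ≫ σX) hb (EtCoh.top Z) (p₁ ≫ uB)
    ((Category.assoc _ _ _).trans ((congrArg (p₁ ≫ ·) huB).trans (Category.id_comp _).symm))
  let Φ := EtDesc.pullVia p₂ σX b rfl F'
  obtain ⟨y, hy⟩ := exists_sect_of_connected p₂ hp₂ ((EtDesc.pullSh σX).obj F')
    (Φ.inv.hom.app (op (EtCoh.top Z)) x)
  have key : ∀ (n₁ n : Spec (CommRingCat.of K) ⟶ B) (_ : n₁ ≫ p = n ≫ p),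
      ∃ g : ((n₁ ≫ uB) ≫ W.hom) ≫ f = (n ≫ σX) ≫ f,
        (pt σX F' n rfl).hom ((transport f F' φ ((n₁ ≫ uB) ≫ W.hom) (n ≫ σX) g).hom
          (sg F' ((n₁ ≫ uB) ≫ W.hom) W (n₁ ≫ uB) rfl σ₀)) =
        sg ((EtDesc.pullSh σX).obj F') n (EtCoh.top B) n (Category.comp_id _) y := by
    intro n₁ n hn
    let ζ : Spec (CommRingCat.of K) ⟶ Z := pullback.lift n₁ n hn
    have e₂ : ζ ≫ p₂ = n := pullback.lift_snd _ _ _
    have el : ζ ≫ p₁ ≫ uB = n₁ ≫ uB :=
      (Category.assoc _ _ _).symm.trans (congrArg (· ≫ uB) (pullback.lift_fst _ _ _))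
    have eb : ζ ≫ b = n ≫ σX := (Category.assoc _ _ _).symm.trans (congrArg (· ≫ σX) e₂)
    have g : ((n₁ ≫ uB) ≫ W.hom) ≫ f = (n ≫ σX) ≫ f := by
      simp only [Category.assoc, reassoc_of% huB, ← hν]
      rw [reassoc_of% hn]
    refine ⟨g, ?_⟩
    have gen : ∀ (χ : Spec (CommRingCat.of K) ⟶ Z) (hχ : ζ ≫ (EtCoh.top Z).hom = χ)
        (l' : Spec (CommRingCat.of K) ⟶ W.left) (_ : ζ ≫ p₁ ≫ uB = l')
        (ξ₂ : Spec (CommRingCat.of K) ⟶ X') (e : χ ≫ b = ξ₂) (g' : (l' ≫ W.hom) ≫ f = ξ₂ ≫ f),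
        sg ((EtDesc.pullSh b).obj F') χ (EtCoh.top Z) ζ hχ x = (pt b F' χ e).hom
          ((transport f F' φ (l' ≫ W.hom) ξ₂ g').hom (sg F' (l' ≫ W.hom) W l' rfl σ₀)) := by
      rintro _ rfl _ rfl _ rfl g'
      exact (hx K ζ).2
    let c := (transport f F' φ ((n₁ ≫ uB) ≫ W.hom) (n ≫ σX) g).hom
      (sg F' ((n₁ ≫ uB) ≫ W.hom) W (n₁ ≫ uB) rfl σ₀)
    have k1 := gen ζ (Category.comp_id _) (n₁ ≫ uB) el (n ≫ σX) eb g
    have k2 := pt_pullVia p₂ σX b rfl F' ζ n (η := n ≫ σX) eb e₂ rfl c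
    have k3 := hy K ζ n e₂
    apply (pt p₂ ((EtDesc.pullSh σX).obj F') ζ e₂).toEquiv.injective
    refine Eq.trans ?_ k3
    refine Eq.trans ?_ (shGerm_map ζ Φ.inv (EtCoh.top Z) (Over.homMk ζ (Category.comp_id _)) x)
    refine Eq.trans ?_ (congrArg ((shStalk ζ).map Φ.inv) k1).symm
    exact ((congrArg ((shStalk ζ).map Φ.inv) k2.symm).trans
      (Groth.DescentBase.UnivSubm.iso_hom_inv ((shStalk ζ).mapIso Φ) _)).symm
  obtain ⟨g₁, r₁⟩ := key l₁ l₂ h
  obtain ⟨g₂, r₂⟩ := key l₂ l₂ rfl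
  have e₂ : (l₂ ≫ uB) ≫ W.hom = l₂ ≫ σX := (Category.assoc _ _ _).trans (congrArg (l₂ ≫ ·) huB)
  refine (same_iff ((l₁ ≫ uB) ≫ W.hom) (l₂ ≫ σX) rfl e₂ g₁).2 ?_
  exact ((pt σX F' l₂ rfl).toEquiv.injective (r₁.trans r₂.symm)).trans
    ((same_iff ((l₂ ≫ uB) ≫ W.hom) (l₂ ≫ σX) rfl e₂ g₂).1 (Same.refl hφ))

include hφ hp hν huB in
/-- The germ extends to the inverse image of the local scheme downstairs. -/
theorem exists_descended_local :
    ∃ y : ((EtDesc.pullSh (pullback.fst f σS)).obj F').obj.obj (op (EtCoh.top (pullback f σS))),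
      ∀ (K : Type u) [Field K] [IsSepClosed K] (m : Spec (CommRingCat.of K) ⟶ pullback f σS)
        (l : Spec (CommRingCat.of K) ⟶ B), m ≫ pullback.snd f σS = l ≫ p →
        HasValues y m W σ₀ (l ≫ uB) φ := by
  refine exists_descended hφ σS uB p (hν.trans (congrArg (· ≫ f) huB.symm)) σ₀
    (same_of_connected hφ σ₀ σX σS p hp hν uB huB) ?_
  haveI : Surjective (pullback.fst (pullback.snd f σS) p) := MorphismProperty.pullback_fst _ _ ‹_›
  haveI : QuasiCompact (pullback.fst (pullback.snd f σS) p) := MorphismProperty.pullback_fst _ _ ‹_›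
  exact isUnivSubmersive_of_ugen _ (MorphismProperty.pullback_fst _ _ hp)

end Groth.ZeroAcyclic.Descent
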