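import Groth.Agent.ZeroAcyclic.Descent.Pairs

/-!
Effectivity of descent data from the local existence of compatible sections.
-/

set_option autoImplicit false
set_option backward.isDefEq.respectTransparency.types false
set_option linter.style.haveILetI false
set_option linter.unusedSectionVars false

universe u

open CategoryTheory CategoryTheory.Limits AlgebraicGeometry Opposite

namespace Groth.ZeroAcyclic.Descent

open Groth.EtaleBase (fiberPoint geomPoint geomPoint_apply pushLift openObj openHom exists_fiber_lift)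
open Groth.DescentBase (shStalk shGerm shGerm_map shGerm_surjective shSection_ext shGerm_eq_iff shGerm_eq_iff_mem
  isIso_of_acPoints acPoint agreeSet isOpen_agreeSet map_eq_iff_range_subset mono_iff_stalks)
open Groth.DescentBase.UnivSubm (pt pt_germ pt_inv_hom pt_hom_inv exists_point isQuotientMap_fst fst_fiberPoint
  pt_naturality pt_canIso)
open Groth.DescentBase.IntDescent (ev ev_germ transport pt_transport transport_self d₁ d₂ ev_d₁ ev_d₂ descSh
  descHom stalk_descHom descSh_condition hom_ext_stalks)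
open Groth.EtaleShriek.BCSets (sg)

variable {X' X : Scheme.{u}} {f : X' ⟶ X} {F' : EtDesc.Sh X'}
  {φ : (EtDesc.pullSh (pullback.fst f f)).obj F' ≅ (EtDesc.pullSh (pullback.snd f f)).obj F'}

/-- The equalizer condition on sections is matching on pairs of points. -/
theorem d_eq_iff (V : X.Etale) (s : F'.obj.obj (op ((EtCoh.bc f).obj V))) :
    (d₁ f F' φ).hom.app (op V) s = (d₂ f F').hom.app (op V) s ↔
      PairSame f F' φ (pullback.fst V.hom f) s := by
  have key : ∀ (K : Type u) [Field K] [IsSepClosed K] (ζ : Spec (CommRingCat.of K) ⟶ pullback f f)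
      (η : Spec (CommRingCat.of K) ⟶ X) (hζ : ζ ≫ pullback.fst f f ≫ f = η)
      (ξ₁ ξ₂ : Spec (CommRingCat.of K) ⟶ X') (e₁ : ζ ≫ pullback.fst f f = ξ₁)
      (e₂ : ζ ≫ pullback.snd f f = ξ₂) (h₁ : ξ₁ ≫ f = η) (h₂ : ξ₂ ≫ f = η)
      (t : (Scheme.pointSmallEtale η).fiber.obj V),
      shGerm ζ ((EtDesc.pullSh (pullback.snd f f)).obj F') _ (pushLift (pullback.fst f f ≫ f) ζ hζ V t)
          ((d₁ f F' φ).hom.app (op V) s) =
        shGerm ζ ((EtDesc.pullSh (pullback.snd f f)).obj F') _ (pushLift (pullback.fst f f ≫ f) ζ hζ V t)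
          ((d₂ f F').hom.app (op V) s) ↔
      Same f F' φ s s (pushLift f ξ₁ h₁ V t).left (pushLift f ξ₂ h₂ V t).left := by
    intro K _ _ ζ η hζ ξ₁ ξ₂ e₁ e₂ h₁ h₂ t
    rw [← ev_germ (pullback.fst f f ≫ f) ζ hζ _ V t, ← ev_germ (pullback.fst f f ≫ f) ζ hζ _ V t,
      ← shGerm_map η (d₁ f F' φ) V t s, ← shGerm_map η (d₂ f F') V t s,
      ev_d₁ f F' φ ζ ξ₁ e₁ h₁ hζ, ev_d₂ f F' ζ ξ₂ e₂ h₂ hζ, ev_germ, ev_germ,
      pt_transport f F' φ ζ ξ₁ ξ₂ e₁ e₂ (h₁.trans h₂.symm),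
      same_iff ξ₁ ξ₂ (Over.w (pushLift f ξ₁ h₁ V t)) (Over.w (pushLift f ξ₂ h₂ V t)) (h₁.trans h₂.symm)]
    exact (pt (pullback.snd f f) F' ζ e₂).toEquiv.injective.eq_iff
  constructor
  · intro he K _ _ l₁ l₂ hl
    let ξ₁ := l₁ ≫ pullback.snd V.hom f
    let ξ₂ := l₂ ≫ pullback.snd V.hom f
    let η := (l₁ ≫ pullback.fst V.hom f) ≫ V.hom
    let t : (Scheme.pointSmallEtale η).fiber.obj V := Over.homMk (l₁ ≫ pullback.fst V.hom f) rfl
    have h₁ : ξ₁ ≫ f = η :=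
      (Category.assoc _ _ _).trans ((congrArg (l₁ ≫ ·) pullback.condition.symm).trans (Category.assoc _ _ _).symm)
    have h₂ : ξ₂ ≫ f = η :=
      (Category.assoc _ _ _).trans ((congrArg (l₂ ≫ ·) pullback.condition.symm).trans
        ((Category.assoc _ _ _).symm.trans (congrArg (· ≫ V.hom) hl.symm)))
    let ζ := pullback.lift ξ₁ ξ₂ (h₁.trans h₂.symm)
    have e₁ : ζ ≫ pullback.fst f f = ξ₁ := pullback.lift_fst _ _ _
    have e₂ : ζ ≫ pullback.snd f f = ξ₂ := pullback.lift_snd _ _ _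
    have hζ : ζ ≫ pullback.fst f f ≫ f = η :=
      (Category.assoc _ _ _).symm.trans ((congrArg (· ≫ f) e₁).trans h₁)
    have k := (key K ζ η hζ ξ₁ ξ₂ e₁ e₂ h₁ h₂ t).1 (by rw [he])
    have p₁ : (pushLift f ξ₁ h₁ V t).left = l₁ :=
      pullback.hom_ext (pullback.lift_fst _ _ _) (pullback.lift_snd _ _ _)
    have p₂ : (pushLift f ξ₂ h₂ V t).left = l₂ :=
      pullback.hom_ext ((pullback.lift_fst _ _ _).trans hl) (pullback.lift_snd _ _ _)
    rw [p₁, p₂] at k
    exact k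
  · intro hs
    refine shSection_ext ((EtDesc.pullSh (pullback.snd f f)).obj F') ((EtCoh.bc (pullback.fst f f ≫ f)).obj V) _ _
      fun y => ?_
    obtain ⟨K, _, _, ζ, t, rfl⟩ := exists_point (pullback.fst f f ≫ f) V y
    rw [← shGerm_eq_iff_mem]
    have h₁ : (ζ ≫ pullback.fst f f) ≫ f = ζ ≫ pullback.fst f f ≫ f := Category.assoc _ _ _
    have h₂ : (ζ ≫ pullback.snd f f) ≫ f = ζ ≫ pullback.fst f f ≫ f :=
      (Category.assoc _ _ _).trans (congrArg (ζ ≫ ·) pullback.condition.symm)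
    refine (key K ζ _ rfl _ _ rfl rfl h₁ h₂ t).2 (hs K _ _ ?_)
    exact (pullback.lift_fst _ _ _).trans (pullback.lift_fst _ _ _).symm

/-- The germ of a section at a point of the base change of an etale scheme. -/
noncomputable abbrev val' {Ω : Type u} [Field Ω] [IsSepClosed Ω] (ξ : Spec (CommRingCat.of Ω) ⟶ X')
    (V : X.Etale) (t : (Scheme.pointSmallEtale (ξ ≫ f)).fiber.obj V) (s : F'.obj.obj (op ((EtCoh.bc f).obj V))) :
    (shStalk ξ).obj F' :=
  shGerm ξ F' ((EtCoh.bc f).obj V) (pushLift f ξ rfl V t) s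

variable (hf : EtDesc.IsUnivSubmersive f) (hφ : EtDesc.IsCocycle F' φ)

include hf in
set_option maxHeartbeats 1000000 in
theorem injective_stalk_descHom {Ω : Type u} [Field Ω] [IsAlgClosed Ω] (ξ : Spec (CommRingCat.of Ω) ⟶ X') :
    Function.Injective ((shStalk ξ).map (descHom f F' φ)) := by
  let ι := equalizer.ι (d₁ f F' φ) (d₂ f F')
  intro p q e
  let η := ξ ≫ f
  obtain ⟨z, rfl⟩ : ∃ z, (pt f (descSh f F' φ) ξ rfl).hom z = p := ⟨_, pt_inv_hom f _ ξ rfl p⟩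
  obtain ⟨w, rfl⟩ : ∃ w, (pt f (descSh f F' φ) ξ rfl).hom w = q := ⟨_, pt_inv_hom f _ ξ rfl q⟩
  rw [stalk_descHom, stalk_descHom] at e
  refine congrArg _ ((mono_iff_stalks ι).1 inferInstance _ _ ?_)
  obtain ⟨V₁, t₁, z₁, rfl⟩ := shGerm_surjective _ (descSh f F' φ) z
  obtain ⟨V₂, t₂, w₁, rfl⟩ := shGerm_surjective _ (descSh f F' φ) w
  let Φ := Scheme.pointSmallEtale η
  obtain ⟨W₀, pm, qm, -⟩ := IsCofilteredOrEmpty.cone_objs (C := Φ.fiber.Elements)
    (Functor.elementsMk _ V₁ t₁) (Functor.elementsMk _ V₂ t₂)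
  obtain ⟨V, t⟩ := W₀
  let p₁ : V ⟶ V₁ := pm.1
  let q₁ : V ⟶ V₂ := qm.1
  have hp : Φ.fiber.map p₁ t = t₁ := pm.2
  have hq : Φ.fiber.map q₁ t = t₂ := qm.2
  let z₂ := (descSh f F' φ).obj.map p₁.op z₁
  let w₂ := (descSh f F' φ).obj.map q₁.op w₁
  have ez : shGerm η (descSh f F' φ) V₁ t₁ z₁ = shGerm η (descSh f F' φ) V t z₂ := by
    rw [← hp]; exact (Φ.toPresheafFiber_w_apply p₁ t (descSh f F' φ).obj z₁).symm
  have ew : shGerm η (descSh f F' φ) V₂ t₂ w₁ = shGerm η (descSh f F' φ) V t w₂ := by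
    rw [← hq]; exact (Φ.toPresheafFiber_w_apply q₁ t (descSh f F' φ).obj w₁).symm
  rw [ez, ew] at e ⊢
  erw [shGerm_map, shGerm_map] at e ⊢
  let s₁ := ι.hom.app (op V) z₂
  let s₂ := ι.hom.app (op V) w₂
  have hd : ∀ u : (descSh f F' φ).obj.obj (op V), PairSame f F' φ (pullback.fst V.hom f) (ι.hom.app (op V) u) :=
    fun u => (d_eq_iff V _).1 (ConcreteCategory.congr_hom
      (congrArg (fun ν : descSh f F' φ ⟶ _ => ν.hom.app (op V)) (equalizer.condition (d₁ f F' φ) (d₂ f F'))) u)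
  rw [ev_germ, ev_germ] at e
  let A := agreeSet F' ((EtCoh.bc f).obj V) s₁ s₂
  have h0 : fiberPoint ξ (pushLift f ξ rfl V t) ∈ A := (shGerm_eq_iff_mem ξ F' _ s₁ s₂ _).1 e
  have hsat : ∀ y₁ y₂ : ↥(pullback V.hom f),
      (pullback.fst V.hom f).base y₁ = (pullback.fst V.hom f).base y₂ → y₁ ∈ A → y₂ ∈ A := by
    intro y₁ y₂ he hy₁
    obtain ⟨z, rfl, rfl⟩ := Scheme.Pullback.exists_preimage_pullback
      (f := pullback.fst V.hom f) (g := pullback.fst V.hom f) y₁ y₂ he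
    let ζ := geomPoint z
    let l₁ := ζ ≫ pullback.fst (pullback.fst V.hom f) (pullback.fst V.hom f)
    let l₂ := ζ ≫ pullback.snd (pullback.fst V.hom f) (pullback.fst V.hom f)
    have hl : l₁ ≫ pullback.fst V.hom f = l₂ ≫ pullback.fst V.hom f := by
      simp only [l₁, l₂, Category.assoc, pullback.condition]
    have g₁ := (shGerm_eq_iff_mem (l₁ ≫ ((EtCoh.bc f).obj V).hom) F' _ s₁ s₂ (Over.homMk l₁ rfl)).2
      (Set.mem_of_eq_of_mem (by
        show l₁ default = _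
        rw [Scheme.Hom.comp_apply]
        exact congrArg _ (geomPoint_apply z _)) hy₁)
    obtain ⟨c₁, r₁⟩ := hd z₂ _ l₁ l₂ hl
    obtain ⟨c₂, r₂⟩ := hd w₂ _ l₁ l₂ hl
    have g₂ : sg F' (l₂ ≫ ((EtCoh.bc f).obj V).hom) _ l₂ rfl s₁ =
        sg F' (l₂ ≫ ((EtCoh.bc f).obj V).hom) _ l₂ rfl s₂ :=
      r₁.symm.trans ((congrArg _ g₁).trans r₂)
    refine Set.mem_of_eq_of_mem ?_ ((shGerm_eq_iff_mem _ F' _ s₁ s₂ (Over.homMk l₂ rfl)).1 g₂)
    show _ = l₂ default
    rw [Scheme.Hom.comp_apply]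
    exact (congrArg _ (geomPoint_apply z _)).symm
  let O : V.left.Opens := ⟨(pullback.fst V.hom f).base '' A, by
    refine (isQuotientMap_fst f hf V).isOpen_preimage.1 ?_
    have hE : (pullback.fst V.hom f).base ⁻¹' ((pullback.fst V.hom f).base '' A) = A := by
      ext y
      exact ⟨fun ⟨y', hy', e'⟩ => hsat y' y e' hy', fun hy => ⟨y, hy, rfl⟩⟩
    exact hE.symm ▸ isOpen_agreeSet F' _ s₁ s₂⟩
  have htO : fiberPoint η t ∈ O := ⟨_, h0, fst_fiberPoint f ξ rfl V t⟩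
  obtain ⟨t', ht', -⟩ := exists_fiber_lift η (openHom V O) t (⟨_, htO⟩ : ↥O) rfl
  refine (shGerm_eq_iff η ((EtDesc.pushSh f).obj F') V t s₁ s₂).2 ⟨openObj V O, openHom V O, t', ht', ?_⟩
  show F'.obj.map ((EtCoh.bc f).map (openHom V O)).op s₁ = F'.obj.map ((EtCoh.bc f).map (openHom V O)).op s₂
  rw [map_eq_iff_range_subset]
  rintro _ ⟨y', rfl⟩
  have h1 : (pullback.fst V.hom f).base (((EtCoh.bc f).map (openHom V O)).left.base y') ∈
      (pullback.fst V.hom f).base '' A := by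
    have e' : ((EtCoh.bc f).map (openHom V O)).left ≫ pullback.fst V.hom f =
        pullback.fst (openObj V O).hom f ≫ O.ι := pullback.lift_fst _ _ _
    refine (congrArg (fun m : _ ⟶ V.left => m.base y') e').symm ▸ ?_
    exact ((pullback.fst (openObj V O).hom f).base y').2
  obtain ⟨y'', hy'', e'⟩ := h1
  exact hsat _ _ e' hy''

variable (hloc : ∀ (Ω : Type u) [Field Ω] [IsAlgClosed Ω] (ξ : Spec (CommRingCat.of Ω) ⟶ X')
  (c : (shStalk ξ).obj F'), ∃ (V : X.Etale) (t : (Scheme.pointSmallEtale (ξ ≫ f)).fiber.obj V)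
    (s : F'.obj.obj (op ((EtCoh.bc f).obj V))), PairSame f F' φ (pullback.fst V.hom f) s ∧ val' ξ V t s = c)

include hloc in
theorem surjective_stalk_descHom {Ω : Type u} [Field Ω] [IsAlgClosed Ω] (ξ : Spec (CommRingCat.of Ω) ⟶ X') :
    Function.Surjective ((shStalk ξ).map (descHom f F' φ)) := by
  intro c
  obtain ⟨V, t, s, hs, hc⟩ := hloc Ω ξ c
  let η := ξ ≫ f
  let ι := equalizer.ι (d₁ f F' φ) (d₂ f F')
  let x := shGerm η ((EtDesc.pushSh f).obj F') V t s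
  have hd : (shStalk η).map (d₁ f F' φ) x = (shStalk η).map (d₂ f F') x := by
    rw [shGerm_map, shGerm_map, (d_eq_iff V s).2 hs]
  obtain ⟨z, hz⟩ : ∃ z, (shStalk η).map ι z = x := by
    have hl := isLimitForkMapOfIsLimit (shStalk η) _ (equalizerIsEqualizer (d₁ f F' φ) (d₂ f F'))
    obtain ⟨m, hm⟩ := Fork.IsLimit.lift' hl (↾ fun _ : PUnit.{u + 2} => x) (by ext; exact hd)
    exact ⟨m PUnit.unit, ConcreteCategory.congr_hom hm PUnit.unit⟩
  refine ⟨(pt f (descSh f F' φ) ξ rfl).hom z, ?_⟩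
  rw [stalk_descHom, hz, ev_germ]
  exact hc

include hf hloc in
/-- **Effective descent** from local compatible sections. -/
theorem effective_of_local : EtDesc.IsEffective f F' φ := by
  have : IsIso (descHom f F' φ) :=
    isIso_of_acPoints _ fun x =>
      ⟨injective_stalk_descHom hf (acPoint x), surjective_stalk_descHom hloc (acPoint x)⟩
  refine ⟨descSh f F' φ, asIso (descHom f F' φ), ?_⟩
  apply Iso.ext
  simp only [Iso.trans_hom, Iso.symm_hom, Functor.mapIso_inv, Functor.mapIso_hom, asIso_hom, asIso_inv]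
  rw [Functor.map_inv, IsIso.inv_comp_eq]
  refine hom_ext_stalks fun Ω _ _ ζ c => ?_
  obtain ⟨a, rfl⟩ : ∃ a, (pt (pullback.fst f f) ((EtDesc.pullSh f).obj (descSh f F' φ)) ζ rfl).hom a = c :=
    ⟨_, pt_inv_hom _ _ ζ rfl c⟩
  obtain ⟨z, rfl⟩ : ∃ z, (pt f (descSh f F' φ) (ζ ≫ pullback.fst f f) rfl).hom z = a :=
    ⟨_, pt_inv_hom _ _ _ rfl a⟩
  have h₂ : (ζ ≫ pullback.snd f f) ≫ f = (ζ ≫ pullback.fst f f) ≫ f := by
    simp only [Category.assoc, pullback.condition]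
  simp only [Functor.map_comp, ConcreteCategory.comp_apply]
  rw [pt_canIso f (descSh f F' φ) ζ _ (ζ ≫ pullback.snd f f) rfl rfl rfl h₂,
    pt_naturality, pt_naturality, stalk_descHom, stalk_descHom]
  exact (descSh_condition f F' φ ζ _ _ rfl rfl rfl h₂ z).symm

end Groth.ZeroAcyclic.Descent
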