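import Groth.Agent.ZeroAcyclic.Descent.Connected

/-!
Compatible sections on étale neighbourhoods from a compatible section over a strictly henselian scheme.
-/

set_option autoImplicit false
set_option backward.isDefEq.respectTransparency.types false
set_option linter.style.haveILetI false
set_option linter.unusedSectionVars false

universe u

open CategoryTheory CategoryTheory.Limits AlgebraicGeometry Opposite IsLocalRing

namespace Groth.ZeroAcyclic.Descent

open Groth.EtaleBase (geomPoint geomPoint_apply)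
open Groth.EtaleBase.EtLimit
open Groth.EtaleShriek.FlatConnBC

variable {X' X : Scheme.{u}} {f : X' ⟶ X} {F' : EtDesc.Sh X'}
  {φ : (EtDesc.pullSh (pullback.fst f f)).obj F' ≅ (EtDesc.pullSh (pullback.snd f f)).obj F'}
  (hφ : EtDesc.IsCocycle F' φ)
  (RS : Type u) [CommRing RS] [HenselianLocalRing RS] [IsSepClosed (ResidueField RS)]
  {Ω : Type u} [Field Ω] [IsSepClosed Ω] (ρS : RS →+* Ω) [IsLocalHom ρS]
  (σS : Spec (CommRingCat.of RS) ⟶ X) [WeaklyEtale σS] {η : Spec (CommRingCat.of Ω) ⟶ X}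
  (hη : locPt RS ρS ≫ σS = η)
  {B : Scheme.{u}} (p : B ⟶ Spec (CommRingCat.of RS)) [Surjective p]
  {W : X'.Etale} (σ₀ : F'.obj.obj (op W)) (uB : B ⟶ W.left)
  (y : ((EtDesc.pullSh (pullback.fst f σS)).obj F').obj.obj (op (EtCoh.top (pullback f σS))))
  (hy : ∀ (K : Type u) [Field K] [IsSepClosed K] (m : Spec (CommRingCat.of K) ⟶ pullback f σS)
    (l : Spec (CommRingCat.of K) ⟶ B), m ≫ pullback.snd f σS = l ≫ p → HasValues y m W σ₀ (l ≫ uB) φ)

include hφ hη hy in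
set_option maxHeartbeats 2000000 in
/-- **Compatible sections near a point.** -/
theorem exists_pairSame (V₀ : X.Etale) (t₀ : (Scheme.pointSmallEtale η).fiber.obj V₀) (U : X'.Etale)
    (a₀ : U.left ⟶ V₀.left) (ha₀ : a₀ ≫ V₀.hom = U.hom ≫ f) [QuasiCompact a₀] [QuasiSeparated a₀] :
    ∃ (V : X.Etale) (d : V ⟶ V₀) (t : (Scheme.pointSmallEtale η).fiber.obj V)
      (_ : (Scheme.pointSmallEtale η).fiber.map d t = t₀) (P : X'.Etale) (a : P.left ⟶ V.left)
      (r : P.left ⟶ U.left) (s : F'.obj.obj (op P)),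
      IsPullback a r d.left a₀ ∧ r ≫ U.hom = P.hom ∧ PairSame f F' φ a s ∧
      ∀ (K : Type u) [Field K] [IsSepClosed K] (l : Spec (CommRingCat.of K) ⟶ B)
        (pl : Spec (CommRingCat.of K) ⟶ P.left),
        (l ≫ p) ≫ locLift RS ρS σS η hη V t = pl ≫ a → Same f F' φ σ₀ s (l ≫ uB) pl := by
  haveI : Etale V₀.hom := V₀.prop
  haveI : Etale U.hom := U.prop
  let σV := locLift RS ρS σS η hη V₀ t₀
  haveI : WeaklyEtale (σV ≫ V₀.hom) := by rw [locLift_hom]; infer_instance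
  haveI : WeaklyEtale σV := WeaklyEtale.of_comp σV V₀.hom
  have hη₀ : locPt RS ρS ≫ σV = t₀.left := locPt_locLift RS ρS σS η hη V₀ t₀
  -- the section on the base change of `U`
  let pX := pullback.fst f σS
  let q : pullback a₀ σV ⟶ pullback f σS :=
    pullback.lift (pullback.fst a₀ σV ≫ U.hom) (pullback.snd a₀ σV)
      ((Category.assoc _ _ _).trans ((congrArg (pullback.fst a₀ σV ≫ ·) ha₀.symm).trans
        ((pullback.condition_assoc V₀.hom).trans
          (congrArg (pullback.snd a₀ σV ≫ ·) (locLift_hom RS ρS σS η hη V₀ t₀)))))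
  let b := pullback.fst a₀ σV ≫ U.hom
  obtain ⟨x', hx'⟩ := exists_transfer (e := pX) (F := F') q b (pullback.lift_fst _ _ _) _ y
    (EtCoh.top (pullback a₀ σV)) q ((Category.comp_id _).trans (Category.id_comp _).symm)
  obtain ⟨x₂, hx₂⟩ := exists_rel₂ (e := U.hom) (pullback.fst a₀ σV) b rfl (EtCoh.top (pullback a₀ σV)) x'
  obtain ⟨V₁, t₁, s₁, hs₁⟩ :=
    exists_stage_section RS ρS σV t₀.left hη₀ a₀ ((EtDesc.pullSh U.hom).obj F') x₂
  haveI : Etale V₁.hom := V₁.prop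
  let T₁ := (EtCoh.bc a₀).obj V₁
  haveI : Etale T₁.hom := T₁.prop
  let P₁ : X'.Etale := Scheme.Etale.mk (T₁.hom ≫ U.hom)
  let i : T₁.left ⟶ P₁.left := 𝟙 _
  haveI : IsIso i := inferInstanceAs (IsIso (𝟙 T₁.left))
  obtain ⟨s, hs⟩ := exists_etale_section U.hom F' T₁ s₁ P₁ i (Category.id_comp _)
  have hrel : ∀ (K : Type u) [Field K] [IsSepClosed K] (m : Spec (CommRingCat.of K) ⟶ pullback a₀ σV),
      Rel pX F' y (m ≫ q) P₁ (m ≫ toNbhd RS ρS σV t₀.left hη₀ a₀ V₁ t₁) s := by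
    intro K _ _ m
    obtain ⟨Wm, g, l, τ, -, R⟩ := exists_rel (e := pX) y (V := EtCoh.top X') pX
      ((Category.comp_id _).trans (Category.id_comp _).symm) (m ≫ q)
    have r₁ := hx₂ K m Wm l τ (hx' K m Wm l τ R)
    let n := m ≫ toNbhd RS ρS σV t₀.left hη₀ a₀ V₁ t₁
    have r₂ : Rel₂ U.hom F' (pullback.fst a₀ σV) x₂ m P₁ n s := by
      have h := (hs₁ K m).trans (hs K n)
      obtain ⟨hl, h⟩ := h
      have e : n ≫ i = n := Category.comp_id _
      exact e ▸ (⟨hl, h⟩ : Rel₂ U.hom F' (pullback.fst a₀ σV) x₂ m P₁ (n ≫ i) s)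
    have e₂ : n ≫ P₁.hom = l ≫ Wm.hom := r₂.1.trans r₁.1.symm
    exact R.of_sg_eq (l ≫ Wm.hom) rfl e₂ (r₁.sg_eq r₂ (l ≫ Wm.hom) rfl e₂)
  let σ₁ := locLift RS ρS σV t₀.left hη₀ V₁ t₁
  haveI : WeaklyEtale (σ₁ ≫ V₁.hom) := by rw [locLift_hom]; infer_instance
  haveI : WeaklyEtale σ₁ := WeaklyEtale.of_comp σ₁ V₁.hom
  have hη₁ : locPt RS ρS ≫ σ₁ = t₁.left := locPt_locLift RS ρS σV t₀.left hη₀ V₁ t₁
  let a₁ : P₁.left ⟶ V₁.left := pullback.fst V₁.hom a₀
  let r₁ : P₁.left ⟶ U.left := pullback.snd V₁.hom a₀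
  have ha₁ : a₁ ≫ V₁.hom = r₁ ≫ a₀ := pullback.condition
  -- values
  have hval : ∀ (K : Type u) [Field K] [IsSepClosed K] (l : Spec (CommRingCat.of K) ⟶ B)
      (pl : Spec (CommRingCat.of K) ⟶ P₁.left),
      (l ≫ p) ≫ σ₁ = pl ≫ a₁ → Same f F' φ σ₀ s (l ≫ uB) pl := by
    intro K _ _ l pl h
    have hm : (pl ≫ r₁) ≫ a₀ = (l ≫ p) ≫ σV :=
      (Category.assoc _ _ _).trans ((congrArg (pl ≫ ·) ha₁.symm).trans ((Category.assoc _ _ _).symm.trans
        ((congrArg (· ≫ V₁.hom) h.symm).trans ((Category.assoc _ _ _).trans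
          (congrArg ((l ≫ p) ≫ ·) (locLift_hom RS ρS σV t₀.left hη₀ V₁ t₁))))))
    let m : Spec (CommRingCat.of K) ⟶ pullback a₀ σV := pullback.lift (pl ≫ r₁) (l ≫ p) hm
    have hq : (m ≫ q) ≫ pullback.snd f σS = l ≫ p :=
      (Category.assoc _ _ _).trans ((congrArg (m ≫ ·) (pullback.lift_snd _ _ _)).trans (pullback.lift_snd _ _ _))
    have hn : m ≫ toNbhd RS ρS σV t₀.left hη₀ a₀ V₁ t₁ = pl := by
      apply pullback.hom_ext
      · refine (Category.assoc _ _ _).trans ((congrArg (m ≫ ·) (pullback.lift_fst _ _ _)).trans ?_)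
        exact (Category.assoc _ _ _).symm.trans ((congrArg (· ≫ σ₁) (pullback.lift_snd _ _ _)).trans h)
      · exact (Category.assoc _ _ _).trans ((congrArg (m ≫ ·) (pullback.lift_snd _ _ _)).trans
          (pullback.lift_fst _ _ _))
    exact hy K (m ≫ q) l hq P₁ s pl (hn ▸ hrel K m)
  -- shrinking
  let Q := pullback a₁ a₁
  let g : Q ⟶ V₁.left := pullback.fst a₁ a₁ ≫ a₁
  haveI : QuasiCompact a₁ := MorphismProperty.pullback_fst _ _ ‹_›
  haveI : QuasiSeparated a₁ := MorphismProperty.pullback_fst _ _ ‹_›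
  haveI : QuasiCompact (pullback.fst a₁ a₁) := MorphismProperty.pullback_fst _ _ ‹_›
  haveI : QuasiSeparated (pullback.fst a₁ a₁) := MorphismProperty.pullback_fst _ _ ‹_›
  haveI : QuasiCompact g := inferInstanceAs (QuasiCompact (_ ≫ _))
  haveI : QuasiSeparated g := inferInstanceAs (QuasiSeparated (_ ≫ _))
  have hP₁ : P₁.hom ≫ f = a₁ ≫ V₁.hom ≫ V₀.hom := by
    show (r₁ ≫ U.hom) ≫ f = _
    rw [Category.assoc, ← ha₀, reassoc_of% ha₁]
  have hQ : (pullback.fst a₁ a₁ ≫ P₁.hom) ≫ f = (pullback.snd a₁ a₁ ≫ P₁.hom) ≫ f :=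
    (Category.assoc _ _ _).trans ((congrArg (pullback.fst a₁ a₁ ≫ ·) hP₁).trans
      ((pullback.condition_assoc _).trans ((congrArg (pullback.snd a₁ a₁ ≫ ·) hP₁.symm).trans
        (Category.assoc _ _ _).symm)))
  obtain ⟨A, hA⟩ := exists_locus (φ := φ) s s (pullback.fst a₁ a₁) (pullback.snd a₁ a₁) hQ
  obtain ⟨V₂, t₂, -, hV₂⟩ := exists_nbhd_top RS ρS σ₁ t₁.left hη₁ g A fun z => by
    obtain ⟨z', rfl⟩ := (pullback.fst (pullback.snd g σ₁) p).surjective z
    let ζ := geomPoint z'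
    let ζz := ζ ≫ pullback.fst (pullback.snd g σ₁) p
    let j := ζz ≫ pullback.fst g σ₁
    let l := ζ ≫ pullback.snd (pullback.snd g σ₁) p
    have h₁ : (l ≫ p) ≫ σ₁ = (j ≫ pullback.fst a₁ a₁) ≫ a₁ := by
      simp only [l, j, ζz, Category.assoc]
      rw [← pullback.condition_assoc, ← pullback.condition]
    have h₂ : (l ≫ p) ≫ σ₁ = (j ≫ pullback.snd a₁ a₁) ≫ a₁ :=
      h₁.trans ((Category.assoc _ _ _).trans ((congrArg (j ≫ ·) pullback.condition).trans
        (Category.assoc _ _ _).symm))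
    refine Set.mem_of_eq_of_mem ?_ ((hA _ j).2 (((hval _ l _ h₁).symm hφ).trans hφ (hval _ l _ h₂)))
    simp only [j, ζz, ζ, Scheme.Hom.comp_apply, geomPoint_apply]
  haveI : Etale V₂.hom := V₂.prop
  let dl : V₂.left ⟶ V₀.left := V₂.hom ≫ V₁.hom
  haveI : Etale dl := inferInstanceAs (Etale (V₂.hom ≫ V₁.hom))
  let V : X.Etale := Scheme.Etale.mk (dl ≫ V₀.hom)
  let d : V ⟶ V₀ := MorphismProperty.Over.homMk dl rfl
  have ht₂ : t₂.left ≫ dl = t₀.left :=
    (Category.assoc _ _ _).symm.trans ((congrArg (· ≫ V₁.hom) (Over.w t₂)).trans (Over.w t₁))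
  let t : (Scheme.pointSmallEtale η).fiber.obj V := Over.homMk t₂.left
    ((Category.assoc _ _ _).symm.trans ((congrArg (· ≫ V₀.hom) ht₂).trans (Over.w t₀)))
  haveI : Etale (pullback.snd dl a₀) := MorphismProperty.pullback_snd _ _ ‹_›
  let P : X'.Etale := Scheme.Etale.mk (pullback.snd dl a₀ ≫ U.hom)
  let kl : P.left ⟶ P₁.left := pullback.lift (pullback.fst dl a₀ ≫ V₂.hom) (pullback.snd dl a₀)
    ((Category.assoc _ _ _).trans pullback.condition)
  let k : P ⟶ P₁ := MorphismProperty.Over.homMk kl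
    ((Category.assoc _ _ _).symm.trans (congrArg (· ≫ U.hom) (pullback.lift_snd _ _ _)))
  refine ⟨V, d, t, Over.OverMorphism.ext ht₂, P, pullback.fst dl a₀, pullback.snd dl a₀,
    F'.obj.map k.op s, IsPullback.of_hasPullback dl a₀, rfl, fun K _ _ l₁ l₂ hl => ?_, fun K _ _ l pl hl => ?_⟩
  · have hk : ∀ l' : Spec (CommRingCat.of K) ⟶ P.left,
        (l' ≫ kl) ≫ a₁ = (l' ≫ pullback.fst dl a₀) ≫ V₂.hom := fun l' =>
      (Category.assoc _ _ _).trans ((congrArg (l' ≫ ·) (pullback.lift_fst _ _ _)).trans (Category.assoc _ _ _).symm)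
    let j : Spec (CommRingCat.of K) ⟶ Q := pullback.lift (l₁ ≫ kl) (l₂ ≫ kl)
      ((hk l₁).trans ((congrArg (· ≫ V₂.hom) hl).trans (hk l₂).symm))
    let z : Spec (CommRingCat.of K) ⟶ pullback V₂.hom g :=
      pullback.lift (l₁ ≫ pullback.fst dl a₀) j ((hk l₁).symm.trans
        ((congrArg (· ≫ a₁) (pullback.lift_fst _ _ _).symm).trans (Category.assoc _ _ _)))
    have hj : j default ∈ A := Set.mem_of_eq_of_mem
      (congrArg (fun m : Spec (CommRingCat.of K) ⟶ Q => m default) (pullback.lift_snd _ _ _)).symm (hV₂ (z default))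
    have h := (hA K j).1 hj
    rw [show j ≫ pullback.fst a₁ a₁ = l₁ ≫ k.left from pullback.lift_fst _ _ _,
      show j ≫ pullback.snd a₁ a₁ = l₂ ≫ k.left from pullback.lift_snd _ _ _] at h
    exact (same_res hφ k s l₁).trans hφ (h.trans hφ ((same_res hφ k s l₂).symm hφ))
  · have hlift : locLift RS ρS σS η hη V t ≫ V₂.hom = σ₁ := by
      haveI : Etale (V₁.hom ≫ V₀.hom) := inferInstance
      refine lift_ext RS ρS σS (V₁.hom ≫ V₀.hom) ?_ ?_ ?_
      · exact (Category.assoc _ _ _).trans ((congrArg (_ ≫ ·) (Category.assoc _ _ _).symm).trans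
          (locLift_hom RS ρS σS η hη V t))
      · exact (Category.assoc _ _ _).symm.trans
          ((congrArg (· ≫ V₀.hom) (locLift_hom RS ρS σV t₀.left hη₀ V₁ t₁)).trans
            (locLift_hom RS ρS σS η hη V₀ t₀))
      · exact (Category.assoc _ _ _).symm.trans
          (((congrArg (· ≫ V₂.hom) (locPt_locLift RS ρS σS η hη V t)).trans (Over.w t₂)).trans hη₁.symm)
    refine (hval K l (pl ≫ kl) ?_).trans hφ ((same_res hφ k s pl).symm hφ)
    refine (congrArg ((l ≫ p) ≫ ·) hlift.symm).trans ((Category.assoc _ _ _).symm.trans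
      ((congrArg (· ≫ V₂.hom) hl).trans ?_))
    exact (Category.assoc _ _ _).trans ((congrArg (pl ≫ ·) (pullback.lift_fst _ _ _).symm).trans
      (Category.assoc _ _ _).symm)

end Groth.ZeroAcyclic.Descent
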