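import Groth.Agent.DescentBase.IntDescentSh
import Groth.Agent.DescentBase.UnivSubmComp
import Groth.Agent.DescentBase.UnivSubmDescent
import Groth.Agent.EtaleShriek.FlatConnBC
import Groth.Agent.EtaleShriek.BCCriterion

/-!
Sections matching under a descent datum: transport, the open locus, and descent of compatible
partial sections.
-/

set_option autoImplicit false
set_option backward.isDefEq.respectTransparency.types false
set_option linter.style.haveILetI false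
set_option linter.unusedSectionVars false

universe u

open CategoryTheory CategoryTheory.Limits AlgebraicGeometry Opposite

namespace Groth.ZeroAcyclic.Descent

open Groth.EtaleBase (fiberPoint geomPoint geomPoint_apply pushLift fiber_bc_ext)
open Groth.DescentBase (shStalk shGerm shGerm_map shGerm_surjective shSection_ext shGerm_eq_iff_mem)
open Groth.DescentBase.UnivSubm (pt pt_germ pt_inv_hom pt_hom_inv pt_pullVia exists_descent Compat val)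
open Groth.DescentBase.IntDescent (transport pt_transport transport_pullVia transport_trans transport_self)
open Groth.EtaleShriek.BCSets (sg sg_res agree mem_agree_iff)
open Groth.EtaleShriek.FlatConnBC (un Rel)

variable {X' X : Scheme.{u}} (f : X' ⟶ X) (F' : EtDesc.Sh X')
  (φ : (EtDesc.pullSh (pullback.fst f f)).obj F' ≅ (EtDesc.pullSh (pullback.snd f f)).obj F')

section same

variable {K : Type u} [Field K] [IsSepClosed K]

/-- Two germs correspond under the descent datum. -/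
def Same {U₁ U₂ : X'.Etale} (σ₁ : F'.obj.obj (op U₁)) (σ₂ : F'.obj.obj (op U₂))
    (l₁ : Spec (CommRingCat.of K) ⟶ U₁.left) (l₂ : Spec (CommRingCat.of K) ⟶ U₂.left) : Prop :=
  ∃ h : (l₁ ≫ U₁.hom) ≫ f = (l₂ ≫ U₂.hom) ≫ f,
    (transport f F' φ (l₁ ≫ U₁.hom) (l₂ ≫ U₂.hom) h).hom (sg F' (l₁ ≫ U₁.hom) U₁ l₁ rfl σ₁) =
      sg F' (l₂ ≫ U₂.hom) U₂ l₂ rfl σ₂

variable {f F' φ} {U₁ U₂ U₃ : X'.Etale} {σ₁ : F'.obj.obj (op U₁)} {σ₂ : F'.obj.obj (op U₂)}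
  {σ₃ : F'.obj.obj (op U₃)} {l₁ : Spec (CommRingCat.of K) ⟶ U₁.left} {l₂ : Spec (CommRingCat.of K) ⟶ U₂.left}
  {l₃ : Spec (CommRingCat.of K) ⟶ U₃.left}

lemma same_iff (ξ₁ ξ₂ : Spec (CommRingCat.of K) ⟶ X') (e₁ : l₁ ≫ U₁.hom = ξ₁) (e₂ : l₂ ≫ U₂.hom = ξ₂)
    (h : ξ₁ ≫ f = ξ₂ ≫ f) :
    Same f F' φ σ₁ σ₂ l₁ l₂ ↔
      (transport f F' φ ξ₁ ξ₂ h).hom (sg F' ξ₁ U₁ l₁ e₁ σ₁) = sg F' ξ₂ U₂ l₂ e₂ σ₂ := by
  subst e₁ e₂
  exact ⟨fun ⟨_, e⟩ => e, fun e => ⟨h, e⟩⟩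

lemma Same.cond (s : Same f F' φ σ₁ σ₂ l₁ l₂) : (l₁ ≫ U₁.hom) ≫ f = (l₂ ≫ U₂.hom) ≫ f := s.1

lemma Same.trans (hφ : EtDesc.IsCocycle F' φ) (s : Same f F' φ σ₁ σ₂ l₁ l₂)
    (t : Same f F' φ σ₂ σ₃ l₂ l₃) : Same f F' φ σ₁ σ₃ l₁ l₃ := by
  obtain ⟨h₁, e₁⟩ := s
  obtain ⟨h₂, e₂⟩ := t
  exact ⟨h₁.trans h₂, by rw [← transport_trans f hφ _ _ _ h₁ h₂, e₁, e₂]⟩

lemma Same.refl (hφ : EtDesc.IsCocycle F' φ) : Same f F' φ σ₁ σ₁ l₁ l₁ := ⟨rfl, transport_self f hφ _ _⟩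

lemma Same.symm (hφ : EtDesc.IsCocycle F' φ) (s : Same f F' φ σ₁ σ₂ l₁ l₂) :
    Same f F' φ σ₂ σ₁ l₂ l₁ := by
  obtain ⟨h, e⟩ := s
  refine ⟨h.symm, ?_⟩
  rw [← e, transport_trans f hφ _ _ _ h h.symm]
  exact transport_self f hφ _ _

lemma same_of_sg_eq (hφ : EtDesc.IsCocycle F' φ) (ξ : Spec (CommRingCat.of K) ⟶ X')
    (e₁ : l₁ ≫ U₁.hom = ξ) (e₂ : l₂ ≫ U₂.hom = ξ) (h : sg F' ξ U₁ l₁ e₁ σ₁ = sg F' ξ U₂ l₂ e₂ σ₂) :
    Same f F' φ σ₁ σ₂ l₁ l₂ :=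
  (same_iff ξ ξ e₁ e₂ rfl).2 ((transport_self f hφ ξ _).trans h)

lemma Same.sg_eq (hφ : EtDesc.IsCocycle F' φ) (s : Same f F' φ σ₁ σ₂ l₁ l₂)
    (ξ : Spec (CommRingCat.of K) ⟶ X') (e₁ : l₁ ≫ U₁.hom = ξ) (e₂ : l₂ ≫ U₂.hom = ξ) :
    sg F' ξ U₁ l₁ e₁ σ₁ = sg F' ξ U₂ l₂ e₂ σ₂ :=
  (transport_self f hφ ξ _).symm.trans ((same_iff ξ ξ e₁ e₂ rfl).1 s)

lemma same_res (hφ : EtDesc.IsCocycle F' φ) {U : X'.Etale} (r : U₁ ⟶ U) (σ : F'.obj.obj (op U))
    (l : Spec (CommRingCat.of K) ⟶ U₁.left) :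
    Same f F' φ (F'.obj.map r.op σ) σ l (l ≫ r.left) :=
  same_of_sg_eq hφ (l ≫ U₁.hom) rfl
    ((Category.assoc _ _ _).trans (congrArg (l ≫ ·) (MorphismProperty.Over.w r)))
    (sg_res F' _ r l rfl _ _ rfl σ)

end same

section locus

variable {f F' φ}

/-- The matching locus is open. -/
theorem exists_locus {U₁ U₂ : X'.Etale} (σ₁ : F'.obj.obj (op U₁)) (σ₂ : F'.obj.obj (op U₂))
    {Q : Scheme.{u}} (p₁ : Q ⟶ U₁.left) (p₂ : Q ⟶ U₂.left) (hQ : (p₁ ≫ U₁.hom) ≫ f = (p₂ ≫ U₂.hom) ≫ f) :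
    ∃ A : Q.Opens, ∀ (K : Type u) [Field K] [IsSepClosed K] (l : Spec (CommRingCat.of K) ⟶ Q),
      l default ∈ A ↔ Same f F' φ σ₁ σ₂ (l ≫ p₁) (l ≫ p₂) := by
  let G := (EtDesc.pullSh (pullback.snd f f)).obj F'
  let B₁ := (EtCoh.bc (pullback.fst f f)).obj U₁
  let B₂ := (EtCoh.bc (pullback.snd f f)).obj U₂
  let s₁ : G.obj.obj (op B₁) := φ.hom.hom.app (op B₁) (un (pullback.fst f f) F' U₁ σ₁)
  let s₂ : G.obj.obj (op B₂) := un (pullback.snd f f) F' U₂ σ₂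
  let j : Q ⟶ pullback f f := pullback.lift (p₁ ≫ U₁.hom) (p₂ ≫ U₂.hom) hQ
  let a₁ : Q ⟶ B₁.left := pullback.lift p₁ j (pullback.lift_fst _ _ _).symm
  let a₂ : Q ⟶ B₂.left := pullback.lift p₂ j (pullback.lift_snd _ _ _).symm
  let κ : Q ⟶ pullback B₁.hom B₂.hom :=
    pullback.lift a₁ a₂ ((pullback.lift_snd _ _ _).trans (pullback.lift_snd _ _ _).symm)
  refine ⟨κ ⁻¹ᵁ agree G B₁ B₂ s₁ s₂, fun K _ _ l => ?_⟩
  let ζ := l ≫ j
  let ξ₁ := (l ≫ p₁) ≫ U₁.hom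
  let ξ₂ := (l ≫ p₂) ≫ U₂.hom
  have e₁ : ζ ≫ pullback.fst f f = ξ₁ :=
    (Category.assoc _ _ _).trans ((congrArg (l ≫ ·) (pullback.lift_fst _ _ _)).trans (Category.assoc _ _ _).symm)
  have e₂ : ζ ≫ pullback.snd f f = ξ₂ :=
    (Category.assoc _ _ _).trans ((congrArg (l ≫ ·) (pullback.lift_snd _ _ _)).trans (Category.assoc _ _ _).symm)
  have hh : ξ₁ ≫ f = ξ₂ ≫ f := by
    simp only [← e₁, ← e₂, ζ, Category.assoc, pullback.condition]
  have hm := mem_agree_iff G B₁ B₂ s₁ s₂ ζ (l ≫ κ) (pullback.lift (l ≫ p₁) ζ e₁.symm) (pullback.lift_snd _ _ _)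
    ((Category.assoc _ _ _).trans ((congrArg (l ≫ ·) (pullback.lift_fst _ _ _)).trans (by
      apply pullback.hom_ext
      · exact ((Category.assoc _ _ _).trans (congrArg (l ≫ ·) (pullback.lift_fst _ _ _))).trans
          (pullback.lift_fst _ _ _).symm
      · exact ((Category.assoc _ _ _).trans (congrArg (l ≫ ·) (pullback.lift_snd _ _ _))).trans
          (pullback.lift_snd _ _ _).symm)))
    (pullback.lift (l ≫ p₂) ζ e₂.symm) (pullback.lift_snd _ _ _)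
    ((Category.assoc _ _ _).trans ((congrArg (l ≫ ·) (pullback.lift_snd _ _ _)).trans (by
      apply pullback.hom_ext
      · exact ((Category.assoc _ _ _).trans (congrArg (l ≫ ·) (pullback.lift_fst _ _ _))).trans
          (pullback.lift_fst _ _ _).symm
      · exact ((Category.assoc _ _ _).trans (congrArg (l ≫ ·) (pullback.lift_snd _ _ _))).trans
          (pullback.lift_snd _ _ _).symm)))
  have k₁ : sg G ζ B₁ (pullback.lift (l ≫ p₁) ζ e₁.symm) (pullback.lift_snd _ _ _) s₁ =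
      (shStalk ζ).map φ.hom ((pt (pullback.fst f f) F' ζ e₁).hom (sg F' ξ₁ U₁ (l ≫ p₁) rfl σ₁)) := by
    rw [pt_germ, shGerm_map]
    rfl
  have k₂ : sg G ζ B₂ (pullback.lift (l ≫ p₂) ζ e₂.symm) (pullback.lift_snd _ _ _) s₂ =
      (pt (pullback.snd f f) F' ζ e₂).hom (sg F' ξ₂ U₂ (l ≫ p₂) rfl σ₂) := by
    rw [pt_germ]
    rfl
  show (l ≫ κ) default ∈ agree G B₁ B₂ s₁ s₂ ↔ _
  rw [hm, k₁, k₂, pt_transport f F' φ ζ ξ₁ ξ₂ e₁ e₂ hh, same_iff ξ₁ ξ₂ rfl rfl hh]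
  exact (pt (pullback.snd f f) F' ζ e₂).toEquiv.injective.eq_iff

/-- The germ of a section transported along the datum. -/
theorem exists_transport_section {U : X'.Etale} (σ : F'.obj.obj (op U)) {Q : Scheme.{u}} (b : Q ⟶ X')
    (b₁ : Q ⟶ X') (hb : b₁ ≫ f = b ≫ f) (B : Q.Etale) (l : B.left ⟶ U.left)
    (hl : l ≫ U.hom = B.hom ≫ b₁) :
    ∃ x : ((EtDesc.pullSh b).obj F').obj.obj (op B),
      ∀ (K : Type u) [Field K] [IsSepClosed K] (m : Spec (CommRingCat.of K) ⟶ B.left),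
        ∃ h : ((m ≫ l) ≫ U.hom) ≫ f = ((m ≫ B.hom) ≫ b) ≫ f,
          sg ((EtDesc.pullSh b).obj F') (m ≫ B.hom) B m rfl x =
            (pt b F' (m ≫ B.hom) rfl).hom ((transport f F' φ ((m ≫ l) ≫ U.hom) ((m ≫ B.hom) ≫ b) h).hom
              (sg F' ((m ≫ l) ≫ U.hom) U (m ≫ l) rfl σ)) := by
  let j : Q ⟶ pullback f f := pullback.lift b₁ b hb
  let Φ := (EtDesc.pullVia j (pullback.fst f f) b₁ (pullback.lift_fst _ _ _) F').symm ≪≫
    (EtDesc.pullSh j).mapIso φ ≪≫ EtDesc.pullVia j (pullback.snd f f) b (pullback.lift_snd _ _ _) F'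
  let d : B ⟶ (EtCoh.bc b₁).obj U :=
    MorphismProperty.Over.homMk (pullback.lift l B.hom hl) (pullback.lift_snd _ _ _)
  refine ⟨Φ.hom.hom.app (op B) (((EtDesc.pullSh b₁).obj F').obj.map d.op (un b₁ F' U σ)),
    fun K _ _ m => ?_⟩
  let ω := m ≫ B.hom
  have e₁ : ω ≫ b₁ = (m ≫ l) ≫ U.hom :=
    ((Category.assoc _ _ _).trans (congrArg (m ≫ ·) hl.symm)).trans (Category.assoc _ _ _).symm
  have h : ((m ≫ l) ≫ U.hom) ≫ f = (ω ≫ b) ≫ f := by
    rw [← e₁]; simp only [ω, Category.assoc, hb]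
  refine ⟨h, ?_⟩
  have k : sg ((EtDesc.pullSh b₁).obj F') ω B m rfl
      (((EtDesc.pullSh b₁).obj F').obj.map d.op (un b₁ F' U σ)) =
      (pt b₁ F' ω e₁).hom (sg F' ((m ≫ l) ≫ U.hom) U (m ≫ l) rfl σ) := by
    rw [pt_germ]
    exact sg_res _ _ d m rfl (pullback.lift (m ≫ l) ω e₁.symm) (pullback.lift_snd _ _ _)
      (by
        apply pullback.hom_ext
        · exact ((Category.assoc _ _ _).trans (congrArg (m ≫ ·) (pullback.lift_fst _ _ _))).trans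
            (pullback.lift_fst _ _ _).symm
        · exact ((Category.assoc _ _ _).trans (congrArg (m ≫ ·) (pullback.lift_snd _ _ _))).trans
            (pullback.lift_snd _ _ _).symm) _
  refine (shGerm_map ω Φ.hom B (Over.homMk m rfl) _).symm.trans ?_
  exact (congrArg ((shStalk ω).map Φ.hom) k).trans
    (transport_pullVia f F' φ j b₁ b _ _ ω _ _ e₁ rfl h _)

/-- A section of an inverse image whose values come from `σ` by transport. -/
def HasValues {Q : Scheme.{u}} {b : Q ⟶ X'} {B : Q.Etale} (y : ((EtDesc.pullSh b).obj F').obj.obj (op B))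
    {K : Type u} [Field K] [IsSepClosed K] (m : Spec (CommRingCat.of K) ⟶ B.left) (U : X'.Etale)
    (σ : F'.obj.obj (op U)) (l : Spec (CommRingCat.of K) ⟶ U.left)
    (φ' : (EtDesc.pullSh (pullback.fst f f)).obj F' ≅ (EtDesc.pullSh (pullback.snd f f)).obj F') : Prop :=
  ∀ (W : X'.Etale) (τ : F'.obj.obj (op W)) (lW : Spec (CommRingCat.of K) ⟶ W.left),
    Rel b F' y m W lW τ → Same f F' φ' σ τ l lW

variable (f F' φ) in
/-- Pairs of points of `P` over the same point of `V` match. -/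
def PairSame {P : X'.Etale} {V : Scheme.{u}} (a : P.left ⟶ V) (σ : F'.obj.obj (op P)) : Prop :=
  ∀ (K : Type u) [Field K] [IsSepClosed K] (l₁ l₂ : Spec (CommRingCat.of K) ⟶ P.left),
    l₁ ≫ a = l₂ ≫ a → Same f F' φ σ σ l₁ l₂

set_option maxHeartbeats 1000000 in
/-- **Descent of partial sections.** -/
theorem exists_descended (hφ : EtDesc.IsCocycle F' φ) {V : Scheme.{u}} (v : V ⟶ X) {P : X'.Etale}
    {P' : Scheme.{u}} (r : P' ⟶ P.left) (a : P' ⟶ V) (ha : a ≫ v = (r ≫ P.hom) ≫ f) (σ : F'.obj.obj (op P))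
    (hP : ∀ (K : Type u) [Field K] [IsSepClosed K] (l₁ l₂ : Spec (CommRingCat.of K) ⟶ P'),
      l₁ ≫ a = l₂ ≫ a → Same f F' φ σ σ (l₁ ≫ r) (l₂ ≫ r))
    (hq : EtDesc.IsUnivSubmersive (pullback.fst (pullback.snd f v) a)) :
    ∃ y : ((EtDesc.pullSh (pullback.fst f v)).obj F').obj.obj (op (EtCoh.top (pullback f v))),
      ∀ (K : Type u) [Field K] [IsSepClosed K] (m : Spec (CommRingCat.of K) ⟶ pullback f v)
        (l : Spec (CommRingCat.of K) ⟶ P'), m ≫ pullback.snd f v = l ≫ a →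
        HasValues y m P σ (l ≫ r) φ := by
  let pX := pullback.fst f v
  let pV := pullback.snd f v
  let q := pullback.fst pV a
  let qA := pullback.snd pV a
  let qP := qA ≫ r
  let G := (EtDesc.pullSh pX).obj F'
  let T := EtCoh.top (pullback f v)
  let B := (EtCoh.bc q).obj T
  have hb : (qP ≫ P.hom) ≫ f = (q ≫ pX) ≫ f := by
    have h1 : (qP ≫ P.hom) ≫ f = qA ≫ a ≫ v := by
      rw [ha]; simp only [qP, Category.assoc]
    rw [h1, ← pullback.condition_assoc, Category.assoc, pullback.condition]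
  obtain ⟨x, hx⟩ := exists_transport_section (φ := φ) σ (q ≫ pX) (qP ≫ P.hom) hb B (B.hom ≫ qP)
    (Category.assoc _ _ _)
  let x₂ := (EtDesc.pullVia q pX (q ≫ pX) rfl F').inv.hom.app (op B) x
  have hval : ∀ (K : Type u) [Field K] [IsSepClosed K] (η : Spec (CommRingCat.of K) ⟶ pullback f v)
      (t : (Scheme.pointSmallEtale η).fiber.obj T) (ω : Spec (CommRingCat.of K) ⟶ pullback pV a)
      (hω : ω ≫ q = η), ∃ h : ((ω ≫ qP) ≫ P.hom) ≫ f = (η ≫ pX) ≫ f,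
        val q G ω hω T t x₂ = (pt pX F' η rfl).hom
          ((transport f F' φ ((ω ≫ qP) ≫ P.hom) (η ≫ pX) h).hom
            (sg F' ((ω ≫ qP) ≫ P.hom) P (ω ≫ qP) rfl σ)) := by
    intro K _ _ η t ω hω
    subst hω
    let m := (pushLift q ω rfl T t).left
    have hm : m ≫ B.hom = ω := pullback.lift_snd _ _ _
    have key : ∀ (ω' : Spec (CommRingCat.of K) ⟶ pullback pV a) (hm : m ≫ B.hom = ω'),
        ∃ h : ((ω' ≫ qP) ≫ P.hom) ≫ f = ((ω' ≫ q) ≫ pX) ≫ f,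
        sg ((EtDesc.pullSh q).obj G) ω' B m hm x₂ = (pt q G ω' rfl).hom ((pt pX F' (ω' ≫ q) rfl).hom
          ((transport f F' φ ((ω' ≫ qP) ≫ P.hom) ((ω' ≫ q) ≫ pX) h).hom
            (sg F' ((ω' ≫ qP) ≫ P.hom) P (ω' ≫ qP) rfl σ))) := by
      rintro _ rfl
      obtain ⟨h, e⟩ := hx K m
      have h' : ((((m ≫ B.hom) ≫ qP) ≫ P.hom)) ≫ f = (((m ≫ B.hom) ≫ q) ≫ pX) ≫ f :=
        (congrArg (fun k => (k ≫ P.hom) ≫ f) (Category.assoc _ _ _)).trans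
          (h.trans (congrArg (· ≫ f) (Category.assoc _ _ _).symm))
      refine ⟨h', ?_⟩
      let ξ := ((m ≫ B.hom) ≫ q) ≫ pX
      let c := (transport f F' φ (((m ≫ B.hom) ≫ qP) ≫ P.hom) ξ h').hom
        (sg F' (((m ≫ B.hom) ≫ qP) ≫ P.hom) P ((m ≫ B.hom) ≫ qP) rfl σ)
      have k := pt_pullVia q pX (q ≫ pX) rfl F' (m ≫ B.hom) ((m ≫ B.hom) ≫ q)
        (η := ξ) (Category.assoc _ _ _).symm rfl rfl c
      have e' : sg ((EtDesc.pullSh (q ≫ pX)).obj F') (m ≫ B.hom) B m rfl x =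
          (pt (q ≫ pX) F' (m ≫ B.hom) (η := ξ) (Category.assoc _ _ _).symm).hom c := by
        refine e.trans ?_
        have gen : ∀ (l₁ : Spec (CommRingCat.of K) ⟶ P.left) (ξ₂ : Spec (CommRingCat.of K) ⟶ X')
            (_ : l₁ = (m ≫ B.hom) ≫ qP) (e₂ : (m ≫ B.hom) ≫ q ≫ pX = ξ₂)
            (h₁ : (l₁ ≫ P.hom) ≫ f = ξ₂ ≫ f),
            (pt (q ≫ pX) F' (m ≫ B.hom) e₂).hom
                ((transport f F' φ (l₁ ≫ P.hom) ξ₂ h₁).hom (sg F' (l₁ ≫ P.hom) P l₁ rfl σ)) =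
              (pt (q ≫ pX) F' (m ≫ B.hom) (η := ξ) (Category.assoc _ _ _).symm).hom c := by
          rintro _ ξ₂ rfl e₂ h₁
          obtain rfl : ξ₂ = ξ := e₂.symm.trans (Category.assoc _ _ _).symm
          rfl
        exact gen _ _ (Category.assoc _ _ _).symm rfl h
      refine (shGerm_map (m ≫ B.hom) (EtDesc.pullVia q pX (q ≫ pX) rfl F').inv B (Over.homMk m rfl) x).symm.trans ?_
      refine (congrArg ((shStalk (m ≫ B.hom)).map (EtDesc.pullVia q pX (q ≫ pX) rfl F').inv)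
        (e'.trans k.symm)).trans ?_
      exact Groth.DescentBase.UnivSubm.iso_hom_inv
        ((shStalk (m ≫ B.hom)).mapIso (EtDesc.pullVia q pX (q ≫ pX) rfl F')) _
    obtain ⟨h, e⟩ := key ω hm
    refine ⟨h, ?_⟩
    rw [val, show pushLift q ω rfl T t = Over.homMk m hm from rfl]
    exact (congrArg (pt q G ω rfl).inv e).trans (pt_hom_inv q G ω rfl _)
  have hcompat : Compat q G T x₂ := by
    intro K _ _ η t ω₁ ω₂ h₁ h₂
    obtain ⟨g₁, r₁⟩ := hval K η t ω₁ h₁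
    obtain ⟨g₂, r₂⟩ := hval K η t ω₂ h₂
    have hs : (ω₁ ≫ qA) ≫ a = (ω₂ ≫ qA) ≫ a := by
      simp only [Category.assoc, qA, ← pullback.condition]
      rw [← Category.assoc, ← Category.assoc, h₁, h₂]
    have hp := hP K _ _ hs
    simp only [Category.assoc] at hp
    obtain ⟨g, e⟩ := hp
    rw [r₁, r₂, ← e, transport_trans f hφ _ _ _ g g₂]
  obtain ⟨y, hy⟩ := exists_descent q G hq T x₂ hcompat
  refine ⟨y, fun K _ _ m l hml W τ lW hR => ?_⟩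
  let ω : Spec (CommRingCat.of K) ⟶ pullback pV a := pullback.lift m l hml
  let η := m ≫ T.hom
  have hω : ω ≫ q = η := (pullback.lift_fst _ _ _).trans (Category.comp_id m).symm
  obtain ⟨g, e⟩ := hval K η (Over.homMk m rfl) ω hω
  rw [← hy, Groth.DescentBase.UnivSubm.val_unit] at e
  obtain ⟨hW, eW⟩ := hR
  have eW' : sg G η T m rfl y = (pt pX F' η rfl).hom (sg F' (η ≫ pX) W lW hW τ) := by
    refine eW.trans ?_
    rw [pt_germ]
    rfl
  have key := (pt pX F' η rfl).toEquiv.injective (eW'.symm.trans e)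
  have hlq : ω ≫ qP = l ≫ r :=
    (Category.assoc _ _ _).symm.trans (congrArg (· ≫ r) (pullback.lift_snd _ _ _))
  have gen : ∀ (l₁ : Spec (CommRingCat.of K) ⟶ P.left) (g : (l₁ ≫ P.hom) ≫ f = (η ≫ pX) ≫ f),
      (sg F' (η ≫ pX) W lW hW τ = (transport f F' φ (l₁ ≫ P.hom) (η ≫ pX) g).hom (sg F' (l₁ ≫ P.hom) P l₁ rfl σ)) →
      Same f F' φ σ τ l₁ lW :=
    fun l₁ g h => (same_iff (l₁ ≫ P.hom) (η ≫ pX) rfl hW g).2 h.symm
  exact hlq ▸ gen _ g key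

end locus

end Groth.ZeroAcyclic.Descent
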